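import Cfsg.Agent.Helper23.BG65Defs
import Cfsg.Agent.Helper22.Transitivity
import Cfsg.Agent.Helper23.Trans
import Cfsg.Agent.Helper23.Uniq3
import Cfsg.Agent.S1361
import Cfsg.Agent.S1378

set_option autoImplicit false

namespace Cfsg.Agent.Helper70

open Cfsg Subgroup
open Cfsg.Agent.Helper23 (BG65Ctx BG65H)

open scoped commutatorElement

universe u

variable {G : Type u} [Group G] [Finite G] {M K U Mstar H : Subgroup G}

/-- INTER. `M ∩ H = U K` when `U ≤ H_σ`. -/
theorem bg65_inter (c : BG65Ctx M K U Mstar) (h : BG65H M K U Mstar H)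
    (hUσ : U ≤ sigmaCore H) : M ⊓ H = U ⊔ K := by
  classical
  have hG := c.hG
  have : IsSimpleGroup G := hG.2.1
  have hUM : U ≤ M := c.hKU.compl.1
  have hKσM : K ⊔ sigmaCore M ≤ M := c.hKU.compl.2.1
  have hKM : K ≤ M := le_sup_left.trans hKσM
  have hσM : sigmaCore M ≤ M := le_sup_right.trans hKσM
  have hMn : M ≤ normalizer (sigmaCore M : Set G) := Helper23.le_normalizer_piCoreOf (sigma M) M
  have hHn : H ≤ normalizer (sigmaCore H : Set G) := Helper23.le_normalizer_piCoreOf (sigma H) H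
  -- M_σ ⊓ H_σ = ⊥
  have hdisj : sigmaCore M ⊓ sigmaCore H = ⊥ := by
    by_contra hne
    have hcard : Nat.card ↥(sigmaCore M ⊓ sigmaCore H) ≠ 1 := by
      intro h1
      exact hne (Subgroup.card_eq_one.mp h1)
    obtain ⟨p, hp, hpd⟩ := Nat.exists_prime_and_dvd hcard
    have hpM : p ∈ sigma M := Helper23.mem_of_dvd_card_piCoreOf (sigma M) M hp
      (hpd.trans (Subgroup.card_dvd_of_le inf_le_left))
    have hpH : p ∈ sigma H := Helper23.mem_of_dvd_card_piCoreOf (sigma H) H hp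
      (hpd.trans (Subgroup.card_dvd_of_le inf_le_right))
    obtain ⟨g, hg⟩ := (Cfsg.Agent.S1378.result hG).2 M H c.hM h.hH ⟨p, hpM, hpH⟩
    exact h.hnM g hg
  -- M_σ ⊓ H ≤ C(U)
  have hcent : sigmaCore M ⊓ H ≤ sigmaCore M ⊓ centralizer (U : Set G) := by
    intro y hy0
    have hy := Subgroup.mem_inf.mp hy0
    refine Subgroup.mem_inf.mpr ⟨hy.1, ?_⟩
    rw [Subgroup.mem_centralizer_iff]
    intro u hu
    have hz1 : y * u * y⁻¹ * u⁻¹ ∈ sigmaCore M := by
      have h1 : u * y⁻¹ * u⁻¹ ∈ sigmaCore M :=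
        (mem_normalizer_iff.mp (hMn (hUM hu)) y⁻¹).mp ((sigmaCore M).inv_mem hy.1)
      have h2 := (sigmaCore M).mul_mem hy.1 h1
      have h3 : y * (u * y⁻¹ * u⁻¹) = y * u * y⁻¹ * u⁻¹ := by group
      rw [← h3]; exact h2
    have hz2 : y * u * y⁻¹ * u⁻¹ ∈ sigmaCore H := by
      have h1 : y * u * y⁻¹ ∈ sigmaCore H := (mem_normalizer_iff.mp (hHn hy.2) u).mp (hUσ hu)
      exact (sigmaCore H).mul_mem h1 ((sigmaCore H).inv_mem (hUσ hu))
    have hz : y * u * y⁻¹ * u⁻¹ = 1 := by
      have h5 : y * u * y⁻¹ * u⁻¹ ∈ sigmaCore M ⊓ sigmaCore H := Subgroup.mem_inf.mpr ⟨hz1, hz2⟩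
      rw [hdisj] at h5
      exact Subgroup.mem_bot.mp h5
    have h6 : y * u = u * y := by
      have h4 : y * u = (y * u * y⁻¹ * u⁻¹) * (u * y) := by group
      rw [h4, hz, one_mul]
    exact h6.symm
  -- M_σ ⊓ H = ⊥
  have hMσH : sigmaCore M ⊓ H = ⊥ := by
    by_contra hne
    have hXc : sigmaCore M ⊓ centralizer (U : Set G) ≠ ⊥ := by
      intro h0
      apply hne
      rw [eq_bot_iff, ← h0]
      exact hcent
    obtain ⟨hCM, huniq⟩ := Cfsg.Agent.S1361.result hG M c.hM K U c.hKU U le_rfl c.hU1 hXc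
    apply Helper68.bg63_main hG c.hM c.hKU c.hK1 c.hU1 c.hMstar c.hKst c.hKstH
    intro n hn
    have hL : IsCoatom (M.map (MulAut.conj n).toMonoidHom) := Helper23.isCoatom_conj_smul n c.hM
    have hCL : centralizer (U : Set G) ≤ M.map (MulAut.conj n).toMonoidHom := by
      intro x hx
      have h1 : n⁻¹ * x * n ∈ centralizer (U : Set G) := by
        rw [Subgroup.mem_centralizer_iff]
        intro u hu
        have h2 : n * u * n⁻¹ ∈ U := (mem_normalizer_iff.mp hn u).mp hu
        have h3 := (Subgroup.mem_centralizer_iff.mp hx) (n * u * n⁻¹) h2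
        calc u * (n⁻¹ * x * n) = n⁻¹ * (n * u * n⁻¹ * x) * n := by group
          _ = n⁻¹ * (x * (n * u * n⁻¹)) * n := by rw [h3]
          _ = n⁻¹ * x * n * u := by group
      refine ⟨n⁻¹ * x * n, hCM h1, ?_⟩
      show n * (n⁻¹ * x * n) * n⁻¹ = x
      group
    have hLM := huniq _ hL hCL
    have hnN : n ∈ normalizer (M : Set G) := by
      rw [mem_normalizer_iff]
      intro m
      constructor
      · intro hm
        have h7 : n * m * n⁻¹ ∈ M.map (MulAut.conj n).toMonoidHom := ⟨m, hm, rfl⟩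
        rw [hLM] at h7
        exact h7
      · intro hm
        rw [← hLM] at hm
        obtain ⟨m', hm', he⟩ := hm
        have he' : n * m' * n⁻¹ = n * m * n⁻¹ := he
        have h8 : m' = m := by
          have h9 : n⁻¹ * (n * m' * n⁻¹) * n = n⁻¹ * (n * m * n⁻¹) * n := by rw [he']
          have h10 : n⁻¹ * (n * m' * n⁻¹) * n = m' := by group
          have h11 : n⁻¹ * (n * m * n⁻¹) * n = m := by group
          rw [h10, h11] at h9
          exact h9
        rw [← h8]
        exact hm'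
    have hNM : normalizer (M : Set G) = M := by
      rcases c.hM.le_iff.mp (le_normalizer : M ≤ normalizer (M : Set G)) with h1 | h1
      · exfalso
        have hnorm : M.Normal := Subgroup.normalizer_eq_top_iff.mp h1
        rcases hnorm.eq_bot_or_eq_top with h2 | h2
        · exact c.hU1 (le_bot_iff.mp (h2 ▸ hUM))
        · exact c.hM.1 h2
      · exact h1
    rw [hNM] at hnN
    exact hnN
  -- conclusion
  apply le_antisymm
  · intro x hx0
    have hx := Subgroup.mem_inf.mp hx0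
    obtain ⟨a, ha, b, hb, hxab⟩ := c.hKU.compl.2.2.2 x hx.1
    have hbH : b ∈ H := by
      have h1 : b = a⁻¹ * x := by rw [hxab]; group
      rw [h1]
      exact H.mul_mem (H.inv_mem (h.hUH ha)) hx.2
    obtain ⟨k, hk, y, hy, hb2⟩ := Helper22.exists_mul_of_mem_sup' (hKM.trans hMn) hb
    have hyH : y ∈ H := by
      have h1 : y = k⁻¹ * b := by rw [hb2]; group
      rw [h1]
      exact H.mul_mem (H.inv_mem (h.hKH hk)) hbH
    have hy1 : y = 1 := by
      have h1 : y ∈ sigmaCore M ⊓ H := Subgroup.mem_inf.mpr ⟨hy, hyH⟩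
      rw [hMσH] at h1
      exact Subgroup.mem_bot.mp h1
    rw [hxab, hb2, hy1, mul_one]
    exact Subgroup.mul_mem_sup ha hk
  · exact sup_le (le_inf hUM h.hUH) (le_inf hKM h.hKH)

end Cfsg.Agent.Helper70
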