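import Mathlib
import Cfsg.Agent.Helper70.FrobComp

set_option autoImplicit false

namespace Cfsg.Agent.Helper70

open Subgroup

section Ito

universe u

variable {G : Type u} [Group G]

/-- In a finite nilpotent group, a `p`-element commutes with a `p'`-element. -/
theorem commute_of_isNilpotent [Finite G] [hG : Group.IsNilpotent G] {p : ℕ} [hp : Fact p.Prime]
    (x g : G) (k : ℕ) (hx : x ^ p ^ k = 1) (hg : (orderOf g).Coprime p) : x * g = g * x := by
  obtain ⟨e⟩ := ((Group.isNilpotent_of_finite_tfae (G := G)).out 0 4).mp hG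
  apply e.symm.injective
  rw [map_mul, map_mul]
  funext r P
  show (e.symm x) r P * (e.symm g) r P = (e.symm g) r P * (e.symm x) r P
  have hrp : (r : ℕ).Prime := Nat.prime_of_mem_primeFactors r.2
  by_cases hr : (r : ℕ) = p
  · have h1 : (e.symm g) r P = 1 := by
      obtain ⟨j, hj⟩ := P.isPGroup' ((e.symm g) r P)
      have h2 : orderOf ((e.symm g) r P) ∣ orderOf g := by
        have : (e.symm g) r P = ((Pi.evalMonoidHom _ P).comp
            ((Pi.evalMonoidHom _ r).comp e.symm.toMonoidHom)) g := rfl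
        rw [this]; exact orderOf_map_dvd _ g
      have h3 : orderOf ((e.symm g) r P) ∣ (r : ℕ) ^ j := orderOf_dvd_of_pow_eq_one hj
      have h4 := Nat.dvd_gcd h2 h3
      have hcop' : (orderOf g).Coprime ((r : ℕ) ^ j) := by
        rw [hr]; exact Nat.Coprime.pow_right j hg
      rw [hcop', Nat.dvd_one] at h4
      exact orderOf_eq_one_iff.mp h4
    rw [h1]; simp
  · have h1 : (e.symm x) r P = 1 := by
      obtain ⟨j, hj⟩ := P.isPGroup' ((e.symm x) r P)
      have h2 : orderOf ((e.symm x) r P) ∣ p ^ k := by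
        apply orderOf_dvd_of_pow_eq_one
        have : (e.symm x) r P ^ p ^ k = (e.symm (x ^ p ^ k)) r P := by rw [map_pow]; rfl
        rw [this, hx, map_one]; rfl
      have h3 : orderOf ((e.symm x) r P) ∣ (r : ℕ) ^ j := orderOf_dvd_of_pow_eq_one hj
      have h4 := Nat.dvd_gcd h2 h3
      have hcop : Nat.Coprime (p ^ k) ((r : ℕ) ^ j) :=
        Nat.Coprime.pow _ _ ((Nat.coprime_primes hp.1 hrp).mpr (Ne.symm hr))
      rw [hcop, Nat.dvd_one] at h4
      exact orderOf_eq_one_iff.mp h4
    rw [h1]; simp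

/-- A finite nilpotent group satisfies Frobenius' condition for every prime. -/
theorem frobCond_of_isNilpotent [Finite G] [Group.IsNilpotent G] (p : ℕ) [Fact p.Prime] :
    FrobCond p G := by
  intro Q hQ g _ hcop
  rw [Subgroup.mem_centralizer_iff]
  intro x hx
  obtain ⟨k, hk⟩ := hQ ⟨x, hx⟩
  have hk' : x ^ p ^ k = 1 := by
    have := congrArg Subtype.val hk
    simpa using this
  exact commute_of_isNilpotent x g k hk' hcop

/-- A finite nilpotent group has a normal `p`-complement for every prime. -/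
theorem hasNPC_of_isNilpotent [Finite G] [Group.IsNilpotent G] (p : ℕ) [Fact p.Prime] :
    HasNPC p G :=
  (frobCond_of_isNilpotent p).hasNPC

/-- If `g` normalizes but does not centralize the `p`-subgroup `Q`, `g` is a `p'`-element and
all proper subgroups have normal `p`-complements, then `G = Q ⟨g⟩`. -/
theorem sup_zpowers_eq_top_of_not_mem_centralizer [Finite G] {p : ℕ}
    (hH : ∀ H : Subgroup G, H ≠ ⊤ → HasNPC p H) (Q : Subgroup G) (hQ : IsPGroup p Q) (g : G)
    (hg : g ∈ normalizer (Q : Set G)) (hcop : (orderOf g).Coprime p)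
    (hgC : g ∉ centralizer (Q : Set G)) : Q ⊔ zpowers g = ⊤ := by
  by_contra hne
  have hF := (hH _ hne).frobCond
  have hgm : g ∈ Q ⊔ zpowers g := (le_sup_right : zpowers g ≤ Q ⊔ zpowers g) (mem_zpowers g)
  have hmem := hF (Q.subgroupOf (Q ⊔ zpowers g)) hQ.comap_subtype ⟨g, hgm⟩
    (by
      rw [Subgroup.mem_normalizer_iff] at hg ⊢
      intro y
      rw [Subgroup.mem_subgroupOf, Subgroup.mem_subgroupOf]
      exact hg y)
    (by rw [Subgroup.orderOf_mk]; exact hcop)
  apply hgC
  rw [Subgroup.mem_centralizer_iff] at hmem ⊢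
  intro x hx
  have := hmem ⟨x, (le_sup_left : Q ≤ Q ⊔ zpowers g) hx⟩ (Subgroup.mem_subgroupOf.mpr hx)
  exact congrArg Subtype.val this

/-- Structure consequences of `G = Q ⟨g⟩` with `g` normalizing `Q`. -/
theorem normal_of_sup_zpowers_eq_top (Q : Subgroup G) (g : G)
    (hg : g ∈ normalizer (Q : Set G)) (htop : Q ⊔ zpowers g = ⊤) : Q.Normal := by
  rw [← Subgroup.normalizer_eq_top_iff, eq_top_iff, ← htop]
  exact sup_le Subgroup.le_normalizer ((zpowers_le).mpr hg)

theorem exists_zpow_of_sup_zpowers_eq_top (Q : Subgroup G) [Q.Normal] (g : G)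
    (htop : Q ⊔ zpowers g = ⊤) (x : G ⧸ Q) : x ∈ zpowers (g : G ⧸ Q) := by
  induction x using QuotientGroup.induction_on with
  | H x =>
    have hx : x ∈ (↑(Q ⊔ zpowers g) : Set G) := by rw [htop]; trivial
    rw [Subgroup.normal_mul] at hx
    obtain ⟨q, hq, z, hz, rfl⟩ := hx
    obtain ⟨i, rfl⟩ := mem_zpowers_iff.mp hz
    rw [mem_zpowers_iff]
    refine ⟨i, ?_⟩
    rw [QuotientGroup.mk_mul, (QuotientGroup.eq_one_iff q).mpr hq, one_mul, QuotientGroup.mk_zpow]

theorem commutator_le_of_sup_zpowers_eq_top (Q : Subgroup G) [Q.Normal] (g : G)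
    (htop : Q ⊔ zpowers g = ⊤) : commutator G ≤ Q := by
  rw [← Subgroup.Normal.quotient_commutative_iff_commutator_le]
  refine ⟨⟨fun a b => ?_⟩⟩
  obtain ⟨i, rfl⟩ := mem_zpowers_iff.mp (exists_zpow_of_sup_zpowers_eq_top Q g htop a)
  obtain ⟨j, rfl⟩ := mem_zpowers_iff.mp (exists_zpow_of_sup_zpowers_eq_top Q g htop b)
  rw [← zpow_add, ← zpow_add, add_comm]

theorem index_dvd_orderOf_of_sup_zpowers_eq_top [Finite G] (Q : Subgroup G) [Q.Normal] (g : G)
    (htop : Q ⊔ zpowers g = ⊤) : Q.index ∣ orderOf g := by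
  rw [Subgroup.index_eq_card,
    ← orderOf_eq_card_of_forall_mem_zpowers (exists_zpow_of_sup_zpowers_eq_top Q g htop)]
  exact orderOf_map_dvd (QuotientGroup.mk' Q) g

/-- A normal `p`-subgroup of index prime to `p` is the unique Sylow `p`-subgroup. -/
theorem sylow_eq_of_normal_of_coprime_index [Finite G] {p : ℕ} [hp : Fact p.Prime]
    (Q : Subgroup G) [Q.Normal] (hQ : IsPGroup p Q) (hidx : Q.index.Coprime p) (P : Sylow p G) :
    (P : Subgroup G) = Q := by
  have h1 : Q ≤ P := by
    have hsup : IsPGroup p ((P : Subgroup G) ⊔ Q : Subgroup G) :=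
      P.isPGroup'.to_sup_of_normal_right hQ
    have := P.is_maximal' hsup le_sup_left
    rw [← this]; exact le_sup_right
  apply le_antisymm _ h1
  rw [← Subgroup.relIndex_eq_one]
  obtain ⟨n, hn⟩ := P.isPGroup'.index (Q.subgroupOf (P : Subgroup G))
  have h2 : Q.relIndex (P : Subgroup G) ∣ Q.index := Subgroup.relIndex_dvd_index_of_normal Q _
  have h3 : Q.relIndex (P : Subgroup G) = p ^ n := hn
  rcases Nat.eq_zero_or_pos n with hn0 | hn0
  · rw [h3, hn0, pow_zero]
  · exfalso
    have h4 : p ∣ Q.index := dvd_trans (by rw [h3]; exact dvd_pow_self p hn0.ne') h2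
    exact (Nat.Prime.coprime_iff_not_dvd hp.1).mp hidx.symm h4

/-- If `G' ≤ Q` for a `p`-subgroup `Q`, every subgroup with a normal `p`-complement is
nilpotent. -/
theorem isNilpotent_of_hasNPC_of_commutator_le [Finite G] {p : ℕ} [hp : Fact p.Prime]
    (Q : Subgroup G) (hQ : IsPGroup p Q) (hcomm : commutator G ≤ Q) (H : Subgroup G)
    (hH : HasNPC p H) : Group.IsNilpotent H := by
  obtain ⟨K, hKn, hKc, k, hKi⟩ := hH
  have hcenter : K ≤ center H := by
    intro a ha
    rw [Subgroup.mem_center_iff]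
    intro h
    -- the commutator a h a⁻¹ h⁻¹ lies in K and (in G) in Q
    have hyK : a * h * a⁻¹ * h⁻¹ ∈ K := by
      have : a * h * a⁻¹ * h⁻¹ = a * (h * a⁻¹ * h⁻¹) := by group
      rw [this]
      exact K.mul_mem ha (hKn.conj_mem _ (K.inv_mem ha) h)
    have hyQ : ((a * h * a⁻¹ * h⁻¹ : H) : G) ∈ Q := by
      apply hcomm
      rw [commutator_eq_closure]
      apply Subgroup.subset_closure
      exact ⟨(a : G), (h : G), by simp [commutatorElement_def]⟩
    have hy1 : a * h * a⁻¹ * h⁻¹ = 1 := by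
      have h1 : orderOf (a * h * a⁻¹ * h⁻¹) ∣ Nat.card K := by
        have := orderOf_dvd_natCard (⟨_, hyK⟩ : K)
        rwa [Subgroup.orderOf_mk] at this
      obtain ⟨j, hj⟩ := hQ ⟨_, hyQ⟩
      have h2 : orderOf (a * h * a⁻¹ * h⁻¹) ∣ p ^ j := by
        apply orderOf_dvd_of_pow_eq_one
        have := congrArg Subtype.val hj
        apply Subtype.ext
        simpa using this
      have h3 := Nat.dvd_gcd h1 h2
      rw [Nat.Coprime.pow_right j hKc, Nat.dvd_one] at h3
      exact orderOf_eq_one_iff.mp h3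
    have h4 : a * h = h * a := by
      calc a * h = (a * h * a⁻¹ * h⁻¹) * (h * a) := by group
        _ = h * a := by rw [hy1, one_mul]
    exact h4.symm
  have hpq : IsPGroup p (H ⧸ K) := IsPGroup.of_card (n := k) (by rw [← Subgroup.index_eq_card, hKi])
  have hnil : Group.IsNilpotent (H ⧸ K) := hpq.isNilpotent
  exact Subgroup.isNilpotent_of_ker_le_center (QuotientGroup.mk' K)
    (by rw [QuotientGroup.ker_mk']; exact hcenter)

end Ito

end Cfsg.Agent.Helper70
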