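import Mathlib
import Cfsg.Agent.Helper70.FrobComp
import Cfsg.Agent.Helper70.Ito

set_option autoImplicit false

namespace Cfsg.Agent.Helper70

open Subgroup

section Schmidt

universe u

variable {G : Type u} [Group G]

/-- A finite group with a normal `r`-complement for every prime `r` is nilpotent. -/
theorem isNilpotent_of_forall_hasNPC [Finite G] (h : ∀ r : ℕ, r.Prime → HasNPC r G) :
    Group.IsNilpotent G := by
  apply ((Group.isNilpotent_of_finite_tfae (G := G)).out 3 0).mp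
  intro r hr P
  classical
  choose K hKn hKc hKi using h
  let I : Subgroup G := ⨅ s : {s : ℕ // s.Prime ∧ s ≠ r}, K s.1 s.2.1
  have hIn : I.Normal := Subgroup.normal_iInf_normal (fun s => hKn s.1 s.2.1)
  have hPI : (P : Subgroup G) ≤ I := by
    intro x hx
    rw [Subgroup.mem_iInf]
    intro s
    obtain ⟨k, hk⟩ := hKi s.1 s.2.1
    have := hKn s.1 s.2.1
    apply mem_of_coprime_orderOf_of_index_pow (K s.1 s.2.1) hk
    obtain ⟨j, hj⟩ := P.isPGroup' ⟨x, hx⟩
    have h1 : orderOf x ∣ r ^ j := by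
      apply orderOf_dvd_of_pow_eq_one
      have := congrArg Subtype.val hj
      simpa using this
    exact Nat.Coprime.coprime_dvd_left h1
      (Nat.Coprime.pow_left j ((Nat.coprime_primes hr.1 s.2.1).mpr (Ne.symm s.2.2)))
  have hIp : IsPGroup r I := by
    rintro ⟨x, hx⟩
    have hx' := Subgroup.mem_iInf.mp hx
    have hord : ∀ d : ℕ, d.Prime → d ∣ orderOf x → d = r := by
      intro d hd hdx
      by_contra hne
      have hxK := hx' ⟨d, hd, hne⟩
      have h1 : orderOf x ∣ Nat.card (K d hd) := by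
        have := orderOf_dvd_natCard (⟨x, hxK⟩ : K d hd)
        rwa [Subgroup.orderOf_mk] at this
      have h2 : d ∣ Nat.card (K d hd) := dvd_trans hdx h1
      exact (Nat.Prime.coprime_iff_not_dvd hd).mp (hKc d hd).symm h2
    have := Nat.eq_prime_pow_of_unique_prime_dvd (orderOf_pos x).ne'
      (fun {d} hd hdx => hord d hd hdx)
    refine ⟨(orderOf x).primeFactorsList.length, ?_⟩
    apply Subtype.ext
    show x ^ r ^ _ = 1
    rw [← this]; exact pow_orderOf_eq_one x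
  have := P.is_maximal' hIp hPI
  rw [← this]; exact hIn

/-- An element of minimal order outside a subgroup `C`, among elements satisfying a property
closed under powers, has prime power order. -/
theorem exists_prime_pow_orderOf_of_minimal [Finite G] (C : Subgroup G) (g : G) (hgC : g ∉ C)
    (hmin : ∀ i : ℕ, orderOf (g ^ i) < orderOf g → g ^ i ∈ C) :
    ∃ (p k : ℕ), p.Prime ∧ 0 < k ∧ orderOf g = p ^ k := by
  have hg1 : orderOf g ≠ 1 := by
    intro h
    rw [orderOf_eq_one_iff] at h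
    exact hgC (h ▸ C.one_mem)
  obtain ⟨p, hp, hpn⟩ := Nat.exists_prime_and_dvd hg1
  obtain ⟨k, m, hm, hkm⟩ := Nat.exists_eq_pow_mul_and_not_dvd (orderOf_pos g).ne' p hp.ne_one
  have hk : 0 < k := by
    rcases Nat.eq_zero_or_pos k with h0 | h0
    · exfalso
      rw [h0, pow_zero, one_mul] at hkm
      exact hm (hkm ▸ hpn)
    · exact h0
  refine ⟨p, k, hp, hk, ?_⟩
  by_contra hne
  have hm1 : m ≠ 1 := by
    intro h
    rw [h, mul_one] at hkm
    exact hne hkm
  have hm0 : m ≠ 0 := by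
    intro h
    rw [h, mul_zero] at hkm
    exact (orderOf_pos g).ne' hkm
  have hpk : 2 ≤ p ^ k := by
    calc 2 ≤ p := hp.two_le
      _ = p ^ 1 := (pow_one p).symm
      _ ≤ p ^ k := Nat.pow_le_pow_right hp.pos hk
  have hm2 : 2 ≤ m := by omega
  have ha : orderOf (g ^ p ^ k) = m := by
    rw [orderOf_pow_of_dvd (pow_pos hp.pos k).ne' (by rw [hkm]; exact dvd_mul_right _ _), hkm,
      Nat.mul_div_cancel_left _ (pow_pos hp.pos k)]
  have hb : orderOf (g ^ m) = p ^ k := by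
    rw [orderOf_pow_of_dvd hm0 (by rw [hkm]; exact dvd_mul_left _ _), hkm,
      Nat.mul_div_cancel _ (Nat.pos_of_ne_zero hm0)]
  have haC : g ^ p ^ k ∈ C := by
    apply hmin
    rw [ha, hkm]
    nlinarith
  have hbC : g ^ m ∈ C := by
    apply hmin
    rw [hb, hkm]
    nlinarith
  have hcop : Nat.Coprime (p ^ k) m := Nat.Coprime.pow_left k ((Nat.Prime.coprime_iff_not_dvd hp).mpr hm)
  have hbez : ((p ^ k : ℕ) : ℤ) * Nat.gcdA (p ^ k) m + (m : ℤ) * Nat.gcdB (p ^ k) m = 1 := by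
    have := Nat.gcd_eq_gcd_ab (p ^ k) m
    rw [hcop.gcd_eq_one] at this
    exact_mod_cast this.symm
  apply hgC
  have hg : g = (g ^ p ^ k) ^ Nat.gcdA (p ^ k) m * (g ^ m) ^ Nat.gcdB (p ^ k) m := by
    rw [← zpow_natCast g (p ^ k), ← zpow_natCast g m, ← zpow_mul, ← zpow_mul, ← zpow_add, hbez,
      zpow_one]
  rw [hg]
  exact C.mul_mem (C.zpow_mem haC _) (C.zpow_mem hbC _)

/-- **Schmidt's theorem**, structure datum of a minimal non-nilpotent group: there are primes
`p ≠ q`, a normal `q`-subgroup `Q₀` and an element `g` of order `p ^ k` with `G = Q₀ ⟨g⟩` and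
`g` not centralizing `Q₀`. -/
theorem exists_schmidt_datum [Finite G] (hnil : ¬ Group.IsNilpotent G)
    (hsub : ∀ H : Subgroup G, H ≠ ⊤ → Group.IsNilpotent H) :
    ∃ p q : ℕ, p.Prime ∧ q.Prime ∧ p ≠ q ∧ ∃ (g : G) (Q₀ : Subgroup G) (k : ℕ),
      orderOf g = p ^ k ∧ IsPGroup q Q₀ ∧ Q₀.Normal ∧ Q₀ ⊔ zpowers g = ⊤ ∧
      g ∉ centralizer (Q₀ : Set G) := by
  have h1 : ∃ q : ℕ, q.Prime ∧ ¬ HasNPC q G := by
    by_contra hcon
    push Not at hcon
    exact hnil (isNilpotent_of_forall_hasNPC hcon)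
  obtain ⟨q, hq, hq'⟩ := h1
  have : Fact q.Prime := ⟨hq⟩
  have hsub' : ∀ H : Subgroup G, H ≠ ⊤ → HasNPC q H := by
    intro H hH
    have := hsub H hH
    exact hasNPC_of_isNilpotent q
  rw [hasNPC_iff_frobCond] at hq'
  unfold FrobCond at hq'
  push Not at hq'
  obtain ⟨Q₀, hQ₀, g₀, hg₀, hcop₀, hg₀C⟩ := hq'
  -- choose g of minimal order
  classical
  have hex : ∃ n : ℕ, ∃ g : G, g ∈ normalizer (Q₀ : Set G) ∧ (orderOf g).Coprime q ∧
      g ∉ centralizer (Q₀ : Set G) ∧ orderOf g = n := ⟨_, g₀, hg₀, hcop₀, hg₀C, rfl⟩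
  obtain ⟨g, hg, hcop, hgC, hgn⟩ := Nat.find_spec hex
  have hmin : ∀ i : ℕ, orderOf (g ^ i) < orderOf g → g ^ i ∈ centralizer (Q₀ : Set G) := by
    intro i hi
    by_contra hnot
    have := Nat.find_min hex (m := orderOf (g ^ i)) (by rw [← hgn]; exact hi)
    apply this
    refine ⟨g ^ i, pow_mem hg i, ?_, hnot, rfl⟩
    exact Nat.Coprime.coprime_dvd_left (orderOf_pow_dvd i) hcop
  obtain ⟨p, k, hp, hk, hpk⟩ := exists_prime_pow_orderOf_of_minimal _ g hgC hmin
  have hpq : p ≠ q := by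
    intro h
    rw [hpk, h] at hcop
    have : q ∣ Nat.gcd (q ^ k) q := Nat.dvd_gcd (dvd_pow_self q hk.ne') dvd_rfl
    rw [hcop] at this
    exact hq.one_lt.ne' (Nat.dvd_one.mp this)
  have htop := sup_zpowers_eq_top_of_not_mem_centralizer hsub' Q₀ hQ₀ g hg hcop hgC
  exact ⟨p, q, hp, hq, hpq, g, Q₀, k, hpk, hQ₀, normal_of_sup_zpowers_eq_top Q₀ g hg htop, htop,
    hgC⟩

/-- In the situation of a Schmidt datum, `⟨g⟩` is a Sylow `p`-subgroup and `Q₀` the Sylow
`q`-subgroup. -/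
theorem sylow_eq_zpowers_of_schmidt_datum [Finite G] {p q : ℕ} [hp : Fact p.Prime]
    [hq : Fact q.Prime] (hpq : p ≠ q) (g : G) (Q₀ : Subgroup G) [Q₀.Normal] (k : ℕ)
    (_hg : orderOf g = p ^ k) (hQ₀ : IsPGroup q Q₀) (htop : Q₀ ⊔ zpowers g = ⊤)
    (P : Sylow p G) (hP : zpowers g ≤ (P : Subgroup G)) : (P : Subgroup G) = zpowers g := by
  symm
  apply Subgroup.eq_of_le_of_card_ge hP
  obtain ⟨j, hj⟩ := IsPGroup.iff_card.mp P.isPGroup'
  obtain ⟨a, ha⟩ := IsPGroup.iff_card.mp hQ₀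
  have h1 : Nat.card (P : Subgroup G) ∣ Nat.card Q₀ * Q₀.index := by
    rw [Subgroup.card_mul_index]; exact Subgroup.card_subgroup_dvd_card _
  have h2 : Nat.card (P : Subgroup G) ∣ Q₀.index := by
    apply Nat.Coprime.dvd_of_dvd_mul_left _ h1
    rw [hj, ha]
    exact Nat.Coprime.pow _ _ ((Nat.coprime_primes hp.1 hq.1).mpr hpq)
  have h3 : Q₀.index ∣ orderOf g := index_dvd_orderOf_of_sup_zpowers_eq_top Q₀ g htop
  rw [Nat.card_zpowers]
  exact Nat.le_of_dvd (orderOf_pos g) (dvd_trans h2 h3)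

end Schmidt

end Cfsg.Agent.Helper70
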