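import Mathlib
import Cfsg.Agent.Helper70.FrobComp
import Cfsg.Agent.Helper70.Ito
import Cfsg.Agent.Helper70.Schmidt

set_option autoImplicit false

namespace Cfsg.Agent.Helper70

open Subgroup

section Schmidt2

universe u

variable {G : Type u} [Group G]

/-- An element lying in a `p`-subgroup and a `q`-subgroup for distinct primes is trivial. -/
theorem eq_one_of_mem_pGroups {p q : ℕ} (hp : p.Prime) (hq : q.Prime) (hpq : p ≠ q)
    {A B : Subgroup G} (hA : IsPGroup p A) (hB : IsPGroup q B) {x : G} (hxA : x ∈ A)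
    (hxB : x ∈ B) : x = 1 := by
  obtain ⟨i, hi⟩ := hA ⟨x, hxA⟩
  obtain ⟨j, hj⟩ := hB ⟨x, hxB⟩
  have h1 : orderOf x ∣ p ^ i := by
    apply orderOf_dvd_of_pow_eq_one
    have := congrArg Subtype.val hi
    simpa using this
  have h2 : orderOf x ∣ q ^ j := by
    apply orderOf_dvd_of_pow_eq_one
    have := congrArg Subtype.val hj
    simpa using this
  have h3 := Nat.dvd_gcd h1 h2
  have hcop : Nat.Coprime (p ^ i) (q ^ j) := Nat.Coprime.pow _ _ ((Nat.coprime_primes hp hq).mpr hpq)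
  rw [hcop, Nat.dvd_one] at h3
  exact orderOf_eq_one_iff.mp h3

/-- A `p`-element lies in every normal Sylow `p`-subgroup. -/
theorem mem_sylow_of_pow_eq_one_of_normal {p : ℕ} [Fact p.Prime] (S : Sylow p G)
    (hS : (S : Subgroup G).Normal) (y : G) (j : ℕ) (hy : y ^ p ^ j = 1) : y ∈ (S : Subgroup G) := by
  have hz : IsPGroup p (zpowers y) := by
    rintro ⟨z, hz⟩
    obtain ⟨i, rfl⟩ := mem_zpowers_iff.mp hz
    refine ⟨j, ?_⟩
    apply Subtype.ext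
    show (y ^ i) ^ p ^ j = 1
    rw [← zpow_natCast, ← zpow_mul, mul_comm, zpow_mul, zpow_natCast, hy, one_zpow]
  have hsup : IsPGroup p ((zpowers y) ⊔ (S : Subgroup G) : Subgroup G) :=
    hz.to_sup_of_normal_right S.isPGroup'
  have := S.is_maximal' hsup le_sup_right
  rw [← this]
  exact (le_sup_left : zpowers y ≤ _) (mem_zpowers y)

/-- Coprime decomposition of an element into commuting powers. -/
theorem exists_decomp_of_coprime (a : G) (m n : ℕ) (hcop : m.Coprime n) (ha : a ^ (m * n) = 1) :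
    ∃ a₁ a₂ : G, a₁ ∈ zpowers a ∧ a₂ ∈ zpowers a ∧ a = a₁ * a₂ ∧ a₁ ^ n = 1 ∧ a₂ ^ m = 1 := by
  have hbez : (m : ℤ) * Nat.gcdA m n + (n : ℤ) * Nat.gcdB m n = 1 := by
    have := Nat.gcd_eq_gcd_ab m n
    rw [hcop.gcd_eq_one] at this
    exact_mod_cast this.symm
  refine ⟨(a ^ m) ^ Nat.gcdA m n, (a ^ n) ^ Nat.gcdB m n, ?_, ?_, ?_, ?_, ?_⟩
  · exact Subgroup.zpow_mem _ (Subgroup.pow_mem _ (mem_zpowers a) _) _
  · exact Subgroup.zpow_mem _ (Subgroup.pow_mem _ (mem_zpowers a) _) _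
  · rw [← zpow_natCast a m, ← zpow_natCast a n, ← zpow_mul, ← zpow_mul, ← zpow_add, hbez,
      zpow_one]
  · rw [← zpow_natCast, ← zpow_natCast a m, ← zpow_mul, ← zpow_mul]
    have h : ((m : ℤ) * (Nat.gcdA m n * (n : ℤ))) = ((m * n : ℕ) : ℤ) * Nat.gcdA m n := by
      push_cast; ring
    rw [h, zpow_mul, zpow_natCast, ha, one_zpow]
  · rw [← zpow_natCast, ← zpow_natCast a n, ← zpow_mul, ← zpow_mul]
    have h : ((n : ℤ) * (Nat.gcdB m n * (m : ℤ))) = ((m * n : ℕ) : ℤ) * Nat.gcdB m n := by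
      push_cast; ring
    rw [h, zpow_mul, zpow_natCast, ha, one_zpow]

end Schmidt2

section SchmidtQuotient

universe u

variable {G : Type u} [Group G]

open scoped commutatorElement in
/-- Key facts for the quotient of a minimal non-nilpotent group by `Q'`, `Q` the normal Sylow
subgroup: the quotient is not abelian, but commutators of elements of a proper subgroup lie in
`Q'`. -/
theorem schmidt_quotient [Finite G] (hnil : ¬ Group.IsNilpotent G)
    (hsub : ∀ H : Subgroup G, H ≠ ⊤ → Group.IsNilpotent H) (q : ℕ) [hq : Fact q.Prime]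
    (hqd : q ∣ Nat.card G) (Q : Sylow q G) (hQ : (Q : Subgroup G).Normal) :
    (¬ commutator G ≤ ⁅(Q : Subgroup G), (Q : Subgroup G)⁆) ∧
    ∀ H : Subgroup G, H ≠ ⊤ → ∀ a ∈ H, ∀ b ∈ H,
      (a * b)⁻¹ * (b * a) ∈ ⁅(Q : Subgroup G), (Q : Subgroup G)⁆ := by
  obtain ⟨p₀, q₀, hp₀, hq₀, hpq, g, Q₀, k, hg, hQ₀, hQ₀n, htop, hgC⟩ :=
    exists_schmidt_datum hnil hsub
  have : Fact p₀.Prime := ⟨hp₀⟩
  have : Fact q₀.Prime := ⟨hq₀⟩
  have hidx := index_dvd_orderOf_of_sup_zpowers_eq_top Q₀ g htop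
  rw [hg] at hidx
  obtain ⟨j, -, hj⟩ := (Nat.dvd_prime_pow hp₀).mp hidx
  obtain ⟨e, he⟩ := IsPGroup.iff_card.mp hQ₀
  have hcard : Nat.card G = q₀ ^ e * p₀ ^ j := by
    rw [← he, ← hj]; exact (Subgroup.card_mul_index Q₀).symm
  have hgp : g ^ p₀ ^ k = 1 := by rw [← hg]; exact pow_orderOf_eq_one g
  have hzp : IsPGroup p₀ (zpowers g) := IsPGroup.of_card (n := k) (by rw [Nat.card_zpowers, hg])
  have hqq : q = q₀ := by
    by_contra hne
    have h1 : q ∣ q₀ ^ e * p₀ ^ j := hcard ▸ hqd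
    rcases (Nat.Prime.dvd_mul hq.1).mp h1 with h2 | h2
    · exact hne ((Nat.prime_dvd_prime_iff_eq hq.1 hq₀).mp (hq.1.dvd_of_dvd_pow h2))
    · have hqp : q = p₀ := (Nat.prime_dvd_prime_iff_eq hq.1 hp₀).mp (hq.1.dvd_of_dvd_pow h2)
      subst hqp
      have hgQ : g ∈ (Q : Subgroup G) := mem_sylow_of_pow_eq_one_of_normal Q hQ g k hgp
      apply hgC
      rw [Subgroup.mem_centralizer_iff]
      intro x hx
      have hc : x * g * x⁻¹ * g⁻¹ = 1 := by
        apply eq_one_of_mem_pGroups hq₀ hq.1 (Ne.symm hpq) hQ₀ Q.isPGroup'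
        · have : x * g * x⁻¹ * g⁻¹ = x * (g * x⁻¹ * g⁻¹) := by group
          rw [this]
          exact Q₀.mul_mem hx (hQ₀n.conj_mem _ (Q₀.inv_mem hx) g)
        · exact (Q : Subgroup G).mul_mem (hQ.conj_mem _ hgQ x) ((Q : Subgroup G).inv_mem hgQ)
      calc x * g = (x * g * x⁻¹ * g⁻¹) * (g * x) := by group
        _ = g * x := by rw [hc, one_mul]
  subst hqq
  have hidxc : Q₀.index.Coprime q := by
    rw [hj]; exact Nat.Coprime.pow_left j ((Nat.coprime_primes hp₀ hq.1).mpr hpq)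
  have hQeq : (Q : Subgroup G) = Q₀ := sylow_eq_of_normal_of_coprime_index Q₀ hQ₀ hidxc Q
  rw [hQeq]
  have hcommQ : commutator G ≤ Q₀ := commutator_le_of_sup_zpowers_eq_top Q₀ g htop
  have hDQ : ⁅Q₀, Q₀⁆ ≤ Q₀ := Subgroup.commutator_le_self Q₀
  constructor
  · intro hcomm
    have hgN : g ∈ ⁅Q₀, Q₀⁆ ⊔ zpowers g :=
      (le_sup_right : zpowers g ≤ ⁅Q₀, Q₀⁆ ⊔ zpowers g) (mem_zpowers g)
    have hNn : (⁅Q₀, Q₀⁆ ⊔ zpowers g).Normal :=
      Subgroup.Normal.of_commutator_le _ (le_trans hcomm le_sup_left)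
    have hNtop : ⁅Q₀, Q₀⁆ ⊔ zpowers g ≠ ⊤ := by
      intro hN
      have hQD : Q₀ ≤ ⁅Q₀, Q₀⁆ := by
        intro x hx
        have hx' : x ∈ (↑(⁅Q₀, Q₀⁆ ⊔ zpowers g) : Set G) := by
          rw [hN]; trivial
        rw [Subgroup.normal_mul] at hx'
        obtain ⟨d, hd, z, hz, rfl⟩ := hx'
        have hzQ : z ∈ Q₀ := by
          have : z = d⁻¹ * (d * z) := by group
          rw [this]; exact Q₀.mul_mem (Q₀.inv_mem (hDQ hd)) hx
        have hz1 : z = 1 := eq_one_of_mem_pGroups hp₀ hq.1 hpq hzp hQ₀ hz hzQ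
        rw [hz1]
        show d * 1 ∈ ⁅Q₀, Q₀⁆
        rw [mul_one]; exact hd
      have htop' : commutator Q₀ = ⊤ := by
        rw [← Subgroup.map_subtype_inj, Subgroup.map_subtype_commutator, ← MonoidHom.range_eq_map,
          Subgroup.range_subtype]
        exact le_antisymm hDQ hQD
      have he0 : e ≠ 0 := by
        intro h0
        rw [h0, pow_zero, one_mul] at hcard
        have h1 : q ∣ p₀ ^ j := hcard ▸ hqd
        exact hpq ((Nat.prime_dvd_prime_iff_eq hq.1 hp₀).mp (hq.1.dvd_of_dvd_pow h1)).symm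
      have hnt : Nontrivial Q₀ := by
        rw [← Finite.one_lt_card_iff_nontrivial, he]
        exact Nat.one_lt_pow he0 hq.1.one_lt
      have : Group.IsNilpotent Q₀ := hQ₀.isNilpotent
      exact (Group.IsSolvable.commutator_lt_top_of_nontrivial Q₀).ne htop'
    have : Group.IsNilpotent (⁅Q₀, Q₀⁆ ⊔ zpowers g : Subgroup G) := hsub _ hNtop
    obtain ⟨S⟩ : Nonempty (Sylow p₀ (⁅Q₀, Q₀⁆ ⊔ zpowers g : Subgroup G)) := inferInstance
    have hSn : (S : Subgroup (⁅Q₀, Q₀⁆ ⊔ zpowers g : Subgroup G)).Normal := inferInstance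
    apply hgC
    rw [Subgroup.mem_centralizer_iff]
    intro x hx
    have hxg : x * g * x⁻¹ ∈ ⁅Q₀, Q₀⁆ ⊔ zpowers g := hNn.conj_mem g hgN x
    have h1 : (⟨g, hgN⟩ : (⁅Q₀, Q₀⁆ ⊔ zpowers g : Subgroup G)) ∈
        (S : Subgroup (⁅Q₀, Q₀⁆ ⊔ zpowers g : Subgroup G)) :=
      mem_sylow_of_pow_eq_one_of_normal S hSn _ k (by apply Subtype.ext; simpa using hgp)
    have h2 : (⟨x * g * x⁻¹, hxg⟩ : (⁅Q₀, Q₀⁆ ⊔ zpowers g : Subgroup G)) ∈
        (S : Subgroup (⁅Q₀, Q₀⁆ ⊔ zpowers g : Subgroup G)) :=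
      mem_sylow_of_pow_eq_one_of_normal S hSn _ k (by
        apply Subtype.ext
        show (x * g * x⁻¹) ^ p₀ ^ k = 1
        rw [conj_pow, hgp]; group)
    have h3 := (S : Subgroup (⁅Q₀, Q₀⁆ ⊔ zpowers g : Subgroup G)).mul_mem h2
      ((S : Subgroup (⁅Q₀, Q₀⁆ ⊔ zpowers g : Subgroup G)).inv_mem h1)
    have hc : x * g * x⁻¹ * g⁻¹ = 1 := by
      apply eq_one_of_mem_pGroups hp₀ hq.1 hpq
        (S.isPGroup'.map (⁅Q₀, Q₀⁆ ⊔ zpowers g : Subgroup G).subtype) hQ₀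
      · exact ⟨_, h3, rfl⟩
      · have : x * g * x⁻¹ * g⁻¹ = x * (g * x⁻¹ * g⁻¹) := by group
        rw [this]
        exact Q₀.mul_mem hx (hQ₀n.conj_mem _ (Q₀.inv_mem hx) g)
    calc x * g = (x * g * x⁻¹ * g⁻¹) * (g * x) := by group
      _ = g * x := by rw [hc, one_mul]
  · intro H hH a haH b hbH
    have : Group.IsNilpotent H := hsub H hH
    have hpow : ∀ y : G, y ^ (q ^ e * p₀ ^ j) = 1 := fun y => by
      rw [← hcard]; exact pow_card_eq_one'
    have hcop : Nat.Coprime (q ^ e) (p₀ ^ j) :=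
      Nat.Coprime.pow _ _ ((Nat.coprime_primes hq.1 hp₀).mpr (Ne.symm hpq))
    obtain ⟨a₁, a₂, ha₁z, ha₂z, haeq, ha₁, ha₂⟩ :=
      exists_decomp_of_coprime a (q ^ e) (p₀ ^ j) hcop (hpow a)
    obtain ⟨b₁, b₂, hb₁z, hb₂z, hbeq, hb₁, hb₂⟩ :=
      exists_decomp_of_coprime b (q ^ e) (p₀ ^ j) hcop (hpow b)
    have ha₁H : a₁ ∈ H := (zpowers_le.mpr haH) ha₁z
    have ha₂H : a₂ ∈ H := (zpowers_le.mpr haH) ha₂z
    have hb₁H : b₁ ∈ H := (zpowers_le.mpr hbH) hb₁z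
    have hb₂H : b₂ ∈ H := (zpowers_le.mpr hbH) hb₂z
    have ha₂Q : a₂ ∈ Q₀ := by
      rw [← hQeq]; exact mem_sylow_of_pow_eq_one_of_normal Q hQ a₂ e ha₂
    have hb₂Q : b₂ ∈ Q₀ := by
      rw [← hQeq]; exact mem_sylow_of_pow_eq_one_of_normal Q hQ b₂ e hb₂
    have hord : ∀ y : G, y ^ p₀ ^ j = 1 → (orderOf y).Coprime q := fun y hy =>
      Nat.Coprime.coprime_dvd_left (orderOf_dvd_of_pow_eq_one hy)
        (Nat.Coprime.pow_left j ((Nat.coprime_primes hp₀ hq.1).mpr hpq))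
    have hcomm_pq : ∀ x y : G, x ∈ H → y ∈ H → x ^ q ^ e = 1 → y ^ p₀ ^ j = 1 →
        x * y = y * x := by
      intro x y hxH hyH hx hy
      have := commute_of_isNilpotent (p := q) (⟨x, hxH⟩ : H) ⟨y, hyH⟩ e
        (by apply Subtype.ext; simpa using hx)
        (by rw [Subgroup.orderOf_mk]; exact hord y hy)
      exact congrArg Subtype.val this
    have h12 : a₂ * b₁ = b₁ * a₂ := hcomm_pq a₂ b₁ ha₂H hb₁H ha₂ hb₁
    have h21 : b₂ * a₁ = a₁ * b₂ := hcomm_pq b₂ a₁ hb₂H ha₁H hb₂ ha₁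
    have h11 : a₁ * b₁ = b₁ * a₁ := by
      obtain ⟨S⟩ : Nonempty (Sylow p₀ H) := inferInstance
      have hSn : (S : Subgroup H).Normal := inferInstance
      have h1 : (⟨a₁, ha₁H⟩ : H) ∈ (S : Subgroup H) :=
        mem_sylow_of_pow_eq_one_of_normal S hSn _ j (by apply Subtype.ext; simpa using ha₁)
      have h2 : (⟨b₁, hb₁H⟩ : H) ∈ (S : Subgroup H) :=
        mem_sylow_of_pow_eq_one_of_normal S hSn _ j (by apply Subtype.ext; simpa using hb₁)
      have h3 := (S : Subgroup H).mul_mem ((S : Subgroup H).mul_mem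
        ((S : Subgroup H).mul_mem h1 h2) ((S : Subgroup H).inv_mem h1))
        ((S : Subgroup H).inv_mem h2)
      have hc : a₁ * b₁ * a₁⁻¹ * b₁⁻¹ = 1 := by
        apply eq_one_of_mem_pGroups hp₀ hq.1 hpq (S.isPGroup'.map H.subtype) hQ₀
        · exact ⟨_, h3, rfl⟩
        · apply hcommQ
          rw [commutator_eq_closure]
          apply Subgroup.subset_closure
          exact ⟨a₁, b₁, by simp [commutatorElement_def]⟩
      calc a₁ * b₁ = (a₁ * b₁ * a₁⁻¹ * b₁⁻¹) * (b₁ * a₁) := by group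
        _ = b₁ * a₁ := by rw [hc, one_mul]
    have hab : a * b = (a₁ * b₁) * (a₂ * b₂) := by
      rw [haeq, hbeq]
      calc a₁ * a₂ * (b₁ * b₂) = a₁ * (a₂ * b₁) * b₂ := by group
        _ = a₁ * (b₁ * a₂) * b₂ := by rw [h12]
        _ = a₁ * b₁ * (a₂ * b₂) := by group
    have hba : b * a = (a₁ * b₁) * (b₂ * a₂) := by
      rw [haeq, hbeq]
      calc b₁ * b₂ * (a₁ * a₂) = b₁ * (b₂ * a₁) * a₂ := by group
        _ = b₁ * (a₁ * b₂) * a₂ := by rw [h21]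
        _ = (b₁ * a₁) * (b₂ * a₂) := by group
        _ = (a₁ * b₁) * (b₂ * a₂) := by rw [h11]
    rw [hab, hba]
    have hfin : ((a₁ * b₁) * (a₂ * b₂))⁻¹ * ((a₁ * b₁) * (b₂ * a₂)) = ⁅b₂⁻¹, a₂⁻¹⁆ := by
      rw [commutatorElement_def]; group
    rw [hfin]
    exact Subgroup.commutator_mem_commutator (Q₀.inv_mem hb₂Q) (Q₀.inv_mem ha₂Q)

end SchmidtQuotient

end Cfsg.Agent.Helper70
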