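import Cfsg.Agent.Helper70.FrobComp

set_option autoImplicit false

namespace Cfsg.Agent.Helper70

open Subgroup

universe u

variable {G : Type u} [Group G]

/-- If Frobenius' condition fails at `p`, there is a `p`-subgroup `Q`, a prime `r ≠ p` and an
element `g` normalizing but not centralizing `Q` whose `r`-th power centralizes `Q`. -/
theorem exists_prime_action_of_not_frobCond [Finite G] {p : ℕ} (h : ¬ FrobCond p G) :
    ∃ (Q : Subgroup G) (g : G) (r : ℕ), IsPGroup p Q ∧ r.Prime ∧ r ≠ p ∧ r ∣ orderOf g ∧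
      g ∈ normalizer (Q : Set G) ∧ g ^ r ∈ centralizer (Q : Set G) ∧
      g ∉ centralizer (Q : Set G) := by
  classical
  unfold FrobCond at h
  push Not at h
  obtain ⟨Q, hQ, g₀, hg₀N, hg₀c, hg₀C⟩ := h
  let S : ℕ → Prop := fun n => ∃ g : G, g ∈ normalizer (Q : Set G) ∧ (orderOf g).Coprime p ∧
    g ∉ centralizer (Q : Set G) ∧ orderOf g = n
  have hS : ∃ n, S n := ⟨orderOf g₀, g₀, hg₀N, hg₀c, hg₀C, rfl⟩
  obtain ⟨g, hgN, hgc, hgC, hgn⟩ := Nat.find_spec hS
  have hmin : ∀ m, m < Nat.find hS → ¬ S m := fun m hm => Nat.find_min hS hm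
  have hn1 : orderOf g ≠ 1 := by
    intro h1
    rw [orderOf_eq_one_iff] at h1
    apply hgC; rw [h1]; exact Subgroup.one_mem _
  have hrp : (orderOf g).minFac.Prime := Nat.minFac_prime hn1
  have hrd : (orderOf g).minFac ∣ orderOf g := Nat.minFac_dvd _
  have hrne : (orderOf g).minFac ≠ p := by
    intro hrp'
    rw [hrp'] at hrd hrp
    exact hrp.one_lt.ne' (Nat.Coprime.eq_one_of_dvd hgc.symm hrd)
  refine ⟨Q, g, (orderOf g).minFac, hQ, hrp, hrne, hrd, hgN, ?_, hgC⟩
  by_contra hcon
  have hord : orderOf (g ^ (orderOf g).minFac) = orderOf g / (orderOf g).minFac :=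
    orderOf_pow_of_dvd hrp.ne_zero hrd
  refine hmin (orderOf g / (orderOf g).minFac) ?_
    ⟨g ^ (orderOf g).minFac, Subgroup.pow_mem _ hgN _, ?_, hcon, hord⟩
  · rw [← hgn]
    exact Nat.div_lt_self (orderOf_pos g) hrp.one_lt
  · rw [hord]
    exact Nat.Coprime.coprime_dvd_left (Nat.div_dvd_of_dvd hrd) hgc

/-- Fixed point congruence for an element acting on a normalized finite subgroup with
`r`-th power acting trivially. -/
theorem card_modEq_card_centralizer_subgroupOf (Q : Subgroup G) [Finite Q] (g : G) (r : ℕ)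
    [Fact r.Prime] (hN : g ∈ normalizer (Q : Set G)) (hr : g ^ r ∈ centralizer (Q : Set G)) :
    Nat.card Q ≡ Nat.card ((centralizer ({g} : Set G)).subgroupOf Q) [MOD r] := by
  classical
  have : Fintype Q := Fintype.ofFinite Q
  let f : Function.End Q := fun x => ⟨g * x * g⁻¹, (mem_normalizer_iff.mp hN x).mp x.2⟩
  have hf : ∀ x : Q, ((f x : Q) : G) = g * x * g⁻¹ := fun x => rfl
  have hpow : ∀ (n : ℕ) (x : Q), (((f ^ n) x : Q) : G) = g ^ n * x * (g ^ n)⁻¹ := by
    intro n
    induction n with
    | zero =>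
      intro x
      have h0 : (f ^ 0) x = x := by rw [pow_zero]; rfl
      rw [h0]; simp
    | succ n ih =>
      intro x
      have h1 : (f ^ (n + 1)) x = (f ^ n) (f x) := by
        rw [pow_succ]; rfl
      rw [h1, ih, hf, pow_succ]; group
  have hfr : f ^ r ^ 1 = 1 := by
    rw [pow_one]
    funext x
    apply Subtype.ext
    rw [hpow]
    have h2 := (mem_centralizer_iff.mp hr) x x.2
    show g ^ r * x * (g ^ r)⁻¹ = x
    rw [← h2]; group
  have hmod := Equiv.Perm.card_fixedPoints_modEq (p := r) (n := 1) hfr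
  have hfix : Function.fixedPoints f = (((centralizer ({g} : Set G)).subgroupOf Q : Subgroup Q) :
      Set Q) := by
    ext x
    rw [Function.mem_fixedPoints, Function.IsFixedPt, SetLike.mem_coe, mem_subgroupOf,
      mem_centralizer_iff]
    constructor
    · intro hx y hy
      rw [Set.mem_singleton_iff] at hy
      rw [hy]
      have h3 : g * x * g⁻¹ = x := by
        have := congrArg Subtype.val hx
        rwa [hf] at this
      calc g * (x : G) = g * x * g⁻¹ * g := by group
        _ = x * g := by rw [h3]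
    · intro hx
      apply Subtype.ext
      rw [hf]
      have := hx g rfl
      rw [this]; group
  rw [Fintype.card_eq_nat_card, Fintype.card_eq_nat_card] at hmod
  have hcard : Nat.card (Function.fixedPoints f) =
      Nat.card ((centralizer ({g} : Set G)).subgroupOf Q) :=
    Nat.card_congr (Equiv.setCongr hfix)
  rw [← hcard]
  exact hmod

end Cfsg.Agent.Helper70
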