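import Mathlib
import Cfsg.Agent.Helper52.U7920Defs

set_option autoImplicit false

/-!
# Piece P2b of S0435 (helper70): an involution centralised by `N(R)` (`R` a Sylow 3-subgroup of
a simple group of order 7920) has a centraliser of order 144.

The Sylow 3-subgroups of `C(z)` number `|C(z)| / 144 ≡ 1 (mod 3)`, and `|C(z)| / 144` divides 55
and is prime to 11.
-/

namespace Cfsg.Agent.Helper70
open Cfsg.Agent.Helper52

variable {G : Type*} [Group G] [Finite G]

theorem u7920_cz_card (h : U7920Hyp G)
    (hTI : ∀ S S' : Sylow 3 G, S ≠ S' → (S : Subgroup G) ⊓ (S' : Subgroup G) = ⊥)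
    (R : Sylow 3 G) (z : G) (hz : orderOf z = 2)
    (hNR : Subgroup.normalizer ((R : Subgroup G) : Set G) ≤ Subgroup.centralizer ({z} : Set G)) :
    Nat.card ↥(Subgroup.centralizer ({z} : Set G)) = 144 := by
  have : Fact (Nat.Prime 3) := ⟨by norm_num⟩
  have hRH : (R : Subgroup G) ≤ Subgroup.centralizer ({z} : Set G) :=
    le_trans Subgroup.le_normalizer hNR
  have hz1 : z ≠ 1 := by
    rintro rfl
    rw [orderOf_one] at hz
    omega
  have h11 : ¬ 11 ∣ Nat.card ↥(Subgroup.centralizer ({z} : Set G)) :=
    h.l11 z hz1 (by rw [hz]; norm_num)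
  have hdvd : Nat.card ↥(Subgroup.centralizer ({z} : Set G)) ∣ 7920 := by
    rw [← h.card]; exact Subgroup.card_subgroup_dvd_card _
  have hmod := card_sylow_modEq_one 3 ↥(Subgroup.centralizer ({z} : Set G))
  have hidx := Sylow.card_eq_index_normalizer (R.subtype hRH)
  have hnorm : Subgroup.normalizer
      (((R.subtype hRH : Sylow 3 ↥(Subgroup.centralizer ({z} : Set G))) :
        Subgroup ↥(Subgroup.centralizer ({z} : Set G))) :
        Set ↥(Subgroup.centralizer ({z} : Set G))) =
      (Subgroup.normalizer ((R : Subgroup G) : Set G)).subgroupOf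
        (Subgroup.centralizer ({z} : Set G)) := by
    rw [Sylow.coe_subtype]
    exact (Subgroup.subgroupOf_normalizer_eq hRH).symm
  have hcardN : Nat.card ↥((Subgroup.normalizer ((R : Subgroup G) : Set G)).subgroupOf
      (Subgroup.centralizer ({z} : Set G))) = 144 := by
    rw [Nat.card_congr (Subgroup.subgroupOfEquivOfLe hNR).toEquiv, h.n3 R]
  have hmul := Subgroup.index_mul_card
    ((Subgroup.normalizer ((R : Subgroup G) : Set G)).subgroupOf
      (Subgroup.centralizer ({z} : Set G)))
  rw [hcardN] at hmul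
  have hidx2 : Nat.card (Sylow 3 ↥(Subgroup.centralizer ({z} : Set G))) =
      ((Subgroup.normalizer ((R : Subgroup G) : Set G)).subgroupOf
        (Subgroup.centralizer ({z} : Set G))).index :=
    hidx.trans (congrArg Subgroup.index hnorm)
  rw [hidx2] at hmod
  obtain ⟨m, hm⟩ : ∃ m, m = ((Subgroup.normalizer ((R : Subgroup G) : Set G)).subgroupOf
      (Subgroup.centralizer ({z} : Set G))).index := ⟨_, rfl⟩
  rw [← hm] at hmod hmul
  rw [← hmul] at hdvd h11 ⊢
  have hm55 : m ∣ 55 := by
    have h1 : m * 144 ∣ 55 * 144 := by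
      norm_num
      exact hdvd
    exact Nat.dvd_of_mul_dvd_mul_right (by norm_num) h1
  have hmle : m ≤ 55 := Nat.le_of_dvd (by norm_num) hm55
  have hmod' : m % 3 = 1 := hmod
  have hm1 : m = 1 := by
    interval_cases m <;> first | rfl | omega
  rw [hm1]

end Cfsg.Agent.Helper70
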