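/-
CALL S1366 (owner helper2), piece ABS.
-/
import Cfsg.Prelude.Def_OddOrderLocal

set_option autoImplicit false

namespace Cfsg.Agent.Helper70

open Cfsg Subgroup

universe u

variable {G : Type u} [Group G] [Finite G]

/-- second isomorphism theorem for a subgroup `K` normalizing `B`: `|KB : B| = |K : K ∩ B|`. -/
theorem bg147abs_relIndex {K B : Subgroup G} (hn : K ≤ normalizer (B : Set G)) :
    B.relIndex (K ⊔ B) = B.relIndex K := by
  have hBN : B ≤ normalizer (B : Set G) := Subgroup.le_normalizer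
  have hJN : K ⊔ B ≤ normalizer (B : Set G) := sup_le hn hBN
  have h1 := Subgroup.relIndex_sup_right (K.subgroupOf (normalizer (B : Set G)))
    (B.subgroupOf (normalizer (B : Set G)))
  rw [← Subgroup.subgroupOf_sup hn hBN, Subgroup.relIndex_subgroupOf hJN,
    Subgroup.relIndex_subgroupOf hn] at h1
  exact h1

/-- A7 (PURE). A Hall `π`-subgroup absorbs the `π`-subgroups it normalizes. -/
theorem bg147_hall_absorb {π : Set ℕ} {K B M : Subgroup G} (hK : IsPiHallOf π K M)
    (hBM : B ≤ M) (hB : ∀ p : ℕ, p.Prime → p ∣ Nat.card B → p ∈ π)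
    (hn : K ≤ normalizer (B : Set G)) : B ≤ K := by
  obtain ⟨hKM, _, hK3⟩ := hK
  have hKJ : K ≤ K ⊔ B := le_sup_left
  have hBJ : B ≤ K ⊔ B := le_sup_right
  have hJM : K ⊔ B ≤ M := sup_le hKM hBM
  -- `|J : K|` divides `|M : K|`
  have hd1 : K.relIndex (K ⊔ B) ∣ K.relIndex M :=
    Dvd.intro _ (Subgroup.relIndex_mul_relIndex K (K ⊔ B) M hKJ hJM)
  -- `|J : K|` divides `|B|`
  have hd2 : K.relIndex (K ⊔ B) ∣ Nat.card B := by
    have e1 : Nat.card K * K.relIndex (K ⊔ B) = Nat.card ↥(K ⊔ B) := by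
      have h := Subgroup.relIndex_mul_relIndex ⊥ K (K ⊔ B) bot_le hKJ
      rwa [Subgroup.relIndex_bot_left, Subgroup.relIndex_bot_left] at h
    have e2 : Nat.card B * B.relIndex (K ⊔ B) = Nat.card ↥(K ⊔ B) := by
      have h := Subgroup.relIndex_mul_relIndex ⊥ B (K ⊔ B) bot_le hBJ
      rwa [Subgroup.relIndex_bot_left, Subgroup.relIndex_bot_left] at h
    rw [bg147abs_relIndex hn] at e2
    obtain ⟨c, hc⟩ : B.relIndex K ∣ Nat.card K := Subgroup.relIndex_dvd_card B K
    have hpos : 0 < B.relIndex K := by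
      rcases Nat.eq_zero_or_pos (B.relIndex K) with h0 | h0
      · rw [h0, zero_mul] at hc
        exact absurd hc Nat.card_pos.ne'
      · exact h0
    refine ⟨c, ?_⟩
    have e3 : B.relIndex K * (K.relIndex (K ⊔ B) * c) = B.relIndex K * Nat.card B := by
      calc B.relIndex K * (K.relIndex (K ⊔ B) * c)
          = (B.relIndex K * c) * K.relIndex (K ⊔ B) := by ring
        _ = Nat.card K * K.relIndex (K ⊔ B) := by rw [← hc]
        _ = Nat.card ↥(K ⊔ B) := e1
        _ = Nat.card B * B.relIndex K := e2.symm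
        _ = B.relIndex K * Nat.card B := by ring
    exact (Nat.eq_of_mul_eq_mul_left hpos e3).symm
  have h1 : K.relIndex (K ⊔ B) = 1 := by
    by_contra hne
    obtain ⟨p, hp, hpd⟩ := Nat.exists_prime_and_dvd hne
    exact hK3 p hp (hB p hp (hpd.trans hd2)) (hpd.trans hd1)
  exact hBJ.trans (Subgroup.relIndex_eq_one.mp h1)

end Cfsg.Agent.Helper70
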