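/-
CALL S1366 (owner helper2), piece CUNIQ.
-/
import Cfsg.Prelude.Def_OddOrderLocal

set_option autoImplicit false

namespace Cfsg.Agent.Helper70

open Cfsg Subgroup

universe u

variable {G : Type u} [Group G] [Finite G]

/-- E4 (PURE). Transport of "the only maximal subgroup over `C_G(Y)`" under conjugation. -/
theorem bg147_conj_uniq {H N Y : Subgroup G} (c : G) (hH : IsCoatom H)
    (hYH : centralizer (Y : Set G) ≤ H)
    (hN : ∀ L : Subgroup G, IsCoatom L →
      centralizer ((Y.map (MulAut.conj c).toMonoidHom : Subgroup G) : Set G) ≤ L → L = N) :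
    H = N.map (MulAut.conj c⁻¹).toMonoidHom := by
  have hL : IsCoatom (H.map (MulAut.conj c).toMonoidHom) :=
    ((MulEquiv.mapSubgroup (MulAut.conj c)).isCoatom_iff H).mpr hH
  have hcent : centralizer ((Y.map (MulAut.conj c).toMonoidHom : Subgroup G) : Set G) ≤
      H.map (MulAut.conj c).toMonoidHom := by
    intro x hx
    refine ⟨c⁻¹ * x * c, hYH ?_, ?_⟩
    · rw [Subgroup.mem_centralizer_iff]
      intro y hy
      have h1 := (Subgroup.mem_centralizer_iff.mp hx) (c * y * c⁻¹)
        ⟨y, hy, by simp [MulAut.conj_apply]⟩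
      calc y * (c⁻¹ * x * c) = c⁻¹ * (c * y * c⁻¹ * x) * c := by group
        _ = c⁻¹ * (x * (c * y * c⁻¹)) * c := by rw [h1]
        _ = c⁻¹ * x * c * y := by group
    · simp only [MulEquiv.coe_toMonoidHom, MulAut.conj_apply]
      group
  have hNeq := hN _ hL hcent
  rw [← hNeq, Subgroup.map_map]
  ext x
  constructor
  · intro hx
    refine ⟨x, hx, ?_⟩
    simp only [MonoidHom.comp_apply, MulEquiv.coe_toMonoidHom, MulAut.conj_apply]
    group
  · rintro ⟨y, hy, rfl⟩
    have e : ((MulAut.conj c⁻¹).toMonoidHom.comp (MulAut.conj c).toMonoidHom) y = y := by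
      simp only [MonoidHom.comp_apply, MulEquiv.coe_toMonoidHom, MulAut.conj_apply]
      group
    rw [e]
    exact hy

end Cfsg.Agent.Helper70
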