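/-
CALL S1366 (owner helper2), piece CYS.
-/
import Cfsg.Prelude.Def_OddOrderLocal

set_option autoImplicit false

namespace Cfsg.Agent.Helper70

open Cfsg Subgroup

universe u

variable {G : Type u} [Group G] [Finite G]

open scoped Pointwise in
/-- B2 (PURE). The join of two commuting cyclic subgroups of coprime orders is cyclic. -/
theorem bg147_cyclic_sup {A B : Subgroup G} (hA : IsCyclic A) (hB : IsCyclic B)
    (hc : ∀ a ∈ A, ∀ b ∈ B, a * b = b * a) (hcop : (Nat.card A).Coprime (Nat.card B)) :
    IsCyclic ↥(A ⊔ B) := by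
  obtain ⟨a, ha⟩ := hA.exists_generator
  obtain ⟨b, hb⟩ := hB.exists_generator
  have hoa : orderOf (a : G) = Nat.card A := by
    rw [Subgroup.orderOf_coe]; exact orderOf_eq_card_of_forall_mem_zpowers ha
  have hob : orderOf (b : G) = Nat.card B := by
    rw [Subgroup.orderOf_coe]; exact orderOf_eq_card_of_forall_mem_zpowers hb
  have hcomm : Commute (a : G) (b : G) := hc a a.2 b b.2
  have hord : orderOf ((a : G) * b) = Nat.card A * Nat.card B := by
    rw [hcomm.orderOf_mul_eq_mul_orderOf_of_coprime (by rw [hoa, hob]; exact hcop), hoa, hob]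
  have hmem : (a : G) * b ∈ A ⊔ B :=
    Subgroup.mul_mem _ (Subgroup.mem_sup_left a.2) (Subgroup.mem_sup_right b.2)
  have hBn : B ≤ normalizer (A : Set G) := by
    intro y hy
    rw [Subgroup.mem_normalizer_iff]
    intro x
    constructor
    · intro hx
      have e : y * x * y⁻¹ = x := by
        rw [← hc x hx y hy, mul_inv_cancel_right]
      rw [e]; exact hx
    · intro hx
      have h2 := hc (y * x * y⁻¹) hx y hy
      have e : x = y * x * y⁻¹ := by
        have h3 : y * x = y * x * y⁻¹ * y := by rw [inv_mul_cancel_right]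
        rw [h2] at h3
        exact mul_left_cancel h3
      rw [e]; exact hx
  have hle : Nat.card ↥(A ⊔ B) ≤ Nat.card A * Nat.card B := by
    have h1 : Nat.card ↥(A ⊔ B) = Nat.card ((A : Set G) * (B : Set G) : Set G) := by
      rw [← Subgroup.coe_mul_of_right_le_normalizer_left A B hBn]
      rfl
    rw [h1]
    exact Set.natCard_mul_le
  apply isCyclic_of_orderOf_eq_card (⟨(a : G) * b, hmem⟩ : ↥(A ⊔ B))
  rw [Subgroup.orderOf_mk, hord]
  apply le_antisymm _ hle
  rw [← hord, ← Subgroup.orderOf_mk _ hmem]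
  exact Nat.le_of_dvd Nat.card_pos (orderOf_dvd_natCard _)

end Cfsg.Agent.Helper70
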