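/-
CALL S1366 (owner helper2), piece MEET.
-/
import Cfsg.Prelude.Def_OddOrderLocal

set_option autoImplicit false

namespace Cfsg.Agent.Helper70

open Cfsg Subgroup

universe u

variable {G : Type u} [Group G] [Finite G]

/-- E3 (PURE). Two subsets with more than half of the elements meet. -/
theorem bg147_meet (A B : Set G) (hA : Nat.card G < 2 * Set.ncard A)
    (hB : Nat.card G < 2 * Set.ncard B) : ∃ a : G, a ∈ A ∧ a ∈ B := by
  by_contra hcon
  push Not at hcon
  have hdisj : Disjoint A B := Set.disjoint_left.mpr hcon
  have h1 := Set.ncard_union_eq hdisj (Set.toFinite A) (Set.toFinite B)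
  have h2 : (A ∪ B).ncard ≤ Nat.card G := Set.ncard_le_card _
  omega

end Cfsg.Agent.Helper70
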