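import Mathlib
import Cfsg.Prelude.Def_OddOrderLocal

/-!
# Helper70: PIECES CJ and CD of CALL BGC (helper25), pure group theory

`N = E S` with `S` normal in `N`, `E ∩ S = 1`.
-/

set_option autoImplicit false
set_option linter.unusedSectionVars false

namespace Cfsg.Agent.Helper70

open Cfsg Subgroup

universe u

variable {G : Type u} [Group G] [Finite G]

/-- CJ (PURE). `N = E S` with `S` normal in `N`, `E ∩ S = 1`; `x ∈ E`, `c ∈ N`, `c⁻¹ x c ∈ E`.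
Then `c = r e` with `r ∈ C_S(x)`, `e ∈ E`.  (Write `c = e₀ s₀`; `x₁ := e₀⁻¹ x e₀`;
`x₁⁻¹ s₀⁻¹ x₁ s₀ ∈ E ∩ S = 1`; `r := e₀ s₀ e₀⁻¹`.) -/
theorem bgc_conj_compl {N S E : Subgroup G} (hE : IsComplIn E S N)
    (hSn : N ≤ normalizer (S : Set G)) {x c : G} (hx : x ∈ E) (hc : c ∈ N)
    (hcx : c⁻¹ * x * c ∈ E) :
    ∃ r ∈ S ⊓ centralizer ({x} : Set G), ∃ e ∈ E, c = r * e := by
  obtain ⟨hEN, hSN, hint, hprod⟩ := hE
  obtain ⟨e₀, he₀, s₀, hs₀, rfl⟩ := hprod c hc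
  have hnorm : ∀ n ∈ N, ∀ s ∈ S, n * s * n⁻¹ ∈ S := fun n hn s hs =>
    (mem_normalizer_iff.mp (hSn hn) s).mp hs
  have hnorm' : ∀ n ∈ N, ∀ s ∈ S, n⁻¹ * s * n ∈ S := fun n hn s hs => by
    have h := hnorm n⁻¹ (N.inv_mem hn) s hs
    rwa [inv_inv] at h
  have hx₁ : e₀⁻¹ * x * e₀ ∈ E := E.mul_mem (E.mul_mem (E.inv_mem he₀) hx) he₀
  have h1 : (e₀⁻¹ * x * e₀)⁻¹ * ((e₀ * s₀)⁻¹ * x * (e₀ * s₀)) ∈ E :=
    E.mul_mem (E.inv_mem hx₁) hcx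
  have h2 : (e₀⁻¹ * x * e₀)⁻¹ * ((e₀ * s₀)⁻¹ * x * (e₀ * s₀)) ∈ S := by
    have h3 : (e₀⁻¹ * x * e₀)⁻¹ * ((e₀ * s₀)⁻¹ * x * (e₀ * s₀))
        = ((e₀⁻¹ * x * e₀)⁻¹ * s₀⁻¹ * (e₀⁻¹ * x * e₀)) * s₀ := by group
    rw [h3]
    exact S.mul_mem (hnorm' _ (hEN hx₁) _ (S.inv_mem hs₀)) hs₀
  have h4 : (e₀⁻¹ * x * e₀)⁻¹ * ((e₀ * s₀)⁻¹ * x * (e₀ * s₀)) = 1 := by
    have h5 : (e₀⁻¹ * x * e₀)⁻¹ * ((e₀ * s₀)⁻¹ * x * (e₀ * s₀)) ∈ E ⊓ S :=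
      Subgroup.mem_inf.mpr ⟨h1, h2⟩
    rw [hint] at h5
    exact mem_bot.mp h5
  have h5 : (e₀ * s₀)⁻¹ * x * (e₀ * s₀) = e₀⁻¹ * x * e₀ := (inv_mul_eq_one.mp h4).symm
  refine ⟨e₀ * s₀ * e₀⁻¹, Subgroup.mem_inf.mpr ⟨hnorm e₀ (hEN he₀) s₀ hs₀, ?_⟩, e₀, he₀,
    by group⟩
  rw [mem_centralizer_iff]
  intro h hh
  rw [Set.mem_singleton_iff] at hh
  subst hh
  calc h * (e₀ * s₀ * e₀⁻¹)
      = e₀ * s₀ * ((e₀ * s₀)⁻¹ * h * (e₀ * s₀)) * e₀⁻¹ := by group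
    _ = e₀ * s₀ * (e₀⁻¹ * h * e₀) * e₀⁻¹ := by rw [h5]
    _ = e₀ * s₀ * e₀⁻¹ * h := by group

/-- CD (PURE; CJ applied to `c⁻¹` for `c ∈ C_G(x)`). -/
theorem bgc_cent_compl {N S E : Subgroup G} (hE : IsComplIn E S N)
    (hSn : N ≤ normalizer (S : Set G)) {x : G} (hx : x ∈ E)
    (hCN : centralizer ({x} : Set G) ≤ N) :
    IsComplIn (E ⊓ centralizer ({x} : Set G)) (S ⊓ centralizer ({x} : Set G))
      (centralizer ({x} : Set G)) := by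
  have hEc := hE
  obtain ⟨hEN, hSN, hint, hprod⟩ := hE
  refine ⟨inf_le_right, inf_le_right, ?_, ?_⟩
  · rw [eq_bot_iff, ← hint]
    exact inf_le_inf inf_le_left inf_le_left
  · intro m hm
    have hmx : m * x = x * m := (mem_centralizer_iff.mp hm x (Set.mem_singleton x)).symm
    have hcx : (m⁻¹)⁻¹ * x * m⁻¹ ∈ E := by
      have h1 : (m⁻¹)⁻¹ * x * m⁻¹ = x := by rw [inv_inv, hmx, mul_inv_cancel_right]
      rw [h1]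
      exact hx
    obtain ⟨r, hr, e, he, hre⟩ := bgc_conj_compl hEc hSn hx (N.inv_mem (hCN hm)) hcx
    have hm' : m = e⁻¹ * r⁻¹ := by
      rw [← mul_inv_rev, ← hre, inv_inv]
    have hrC : r ∈ centralizer ({x} : Set G) := (Subgroup.mem_inf.mp hr).2
    have heC : e ∈ centralizer ({x} : Set G) := by
      have h1 : e = r⁻¹ * m⁻¹ := by
        rw [hre]
        group
      rw [h1]
      exact (centralizer _).mul_mem ((centralizer _).inv_mem hrC) ((centralizer _).inv_mem hm)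
    exact ⟨e⁻¹, Subgroup.mem_inf.mpr ⟨E.inv_mem he, (centralizer _).inv_mem heC⟩, r⁻¹,
      (S ⊓ centralizer ({x} : Set G)).inv_mem hr, hm'⟩

end Cfsg.Agent.Helper70
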