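import Mathlib
import Cfsg.Agent.Helper90.HTDefs
import Cfsg.Agent.Helper90.BGChain
import Cfsg.Agent.Helper46.BGLIRR
import Cfsg.Agent.Helper5.HTHGUORD
import Cfsg.Agent.Helper37.HTORDC

set_option autoImplicit false

/-!
# S5953 piece HODD (helper70): in the non-self-dual case every nonzero invariant subspace without
fixed vectors contains a nonzero invariant totally isotropic subspace.
-/

namespace Cfsg.Agent.Helper70.HT5953

open Module Polynomial Cfsg.Agent.Helper90.HT Cfsg.Agent.Helper90.BG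
open Cfsg.Agent.Helper5.HT5953 Cfsg.Agent.Helper37.HT5953

section geom2

variable {F : Type*} [Field F] {V : Type*} [AddCommGroup V] [Module F V] [FiniteDimensional F V]
  (σ : F →+* F) (h : V → V → F)

variable [Fintype F] (q : ℕ) (hq : Fintype.card F = q ^ 2) (hσ : ∀ a, σ a = a ^ q)

include hq hσ

/-- HODD (uses HGUORD on an irreducible invariant subspace, ORDC): in the non-self-dual case
every nonzero invariant subspace without fixed vectors contains a nonzero invariant t.i. one. -/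
theorem ht_odd (hh : IsHerm σ h) (T : Module.End F V) (hT : HPres h T) (r : ℕ) [Fact r.Prime]
    (hr2 : 2 < r) (hrF : (r : F) ≠ 0) (hTr : T ^ r = 1)
    (hi : orderOf ((q : ℕ) : ZMod r) % 4 ≠ 2) (U : Submodule F V)
    (hU : U.map T ≤ U) (hU0 : U ≠ ⊥) (hUk : U ⊓ LinearMap.ker (T - 1) = ⊥) :
    ∃ W' : Submodule F V, W' ≤ U ∧ HTI h W' ∧ W'.map T ≤ W' ∧ W' ≠ ⊥ := by
  classical
  have hrpr : r.Prime := Fact.out
  have hrq : ¬ r ∣ q := by
    intro hdq
    apply hrF
    obtain ⟨p, hp⟩ := CharP.exists F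
    have hpp : p.Prime := by
      rcases CharP.char_is_prime_or_zero F p with h | h
      · exact h
      · exfalso
        subst h
        have : CharZero F := CharP.charP_to_charZero F
        exact not_finite F
    have : Fact p.Prime := ⟨hpp⟩
    obtain ⟨n, -, hn⟩ := FiniteField.card F p
    have h1 : r ∣ Fintype.card F := by rw [hq]; exact dvd_pow hdq two_ne_zero
    rw [hn] at h1
    have h3 := (Nat.prime_dvd_prime_iff_eq hrpr hpp).mp (hrpr.dvd_of_dvd_pow h1)
    rw [h3]
    exact CharP.cast_eq_zero F p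
  obtain ⟨-, hb0, -, hbo, -, -, hn42, -, hall⟩ := ht_ordc r q hr2 hrq
    (orderOf ((q : ℕ) : ZMod r))
    (if Even (orderOf ((q : ℕ) : ZMod r)) then orderOf ((q : ℕ) : ZMod r) / 2
      else orderOf ((q : ℕ) : ZMod r))
    (if orderOf ((q : ℕ) : ZMod r) % 4 = 0 then orderOf ((q : ℕ) : ZMod r)
      else if orderOf ((q : ℕ) : ZMod r) % 4 = 2 then orderOf ((q : ℕ) : ZMod r) / 2
      else 2 * orderOf ((q : ℕ) : ZMod r)) rfl rfl rfl
  have hc := hn42 hi
  rw [hc] at hall
  set b := orderOf ((Fintype.card F : ℕ) : ZMod r) with hbdef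
  have hbb : (if Even (orderOf ((q : ℕ) : ZMod r)) then orderOf ((q : ℕ) : ZMod r) / 2
      else orderOf ((q : ℕ) : ZMod r)) = b := by
    rw [hbo, hbdef, hq]
  rw [hbb] at hb0 hall
  have hd : ∀ g : F[X], Irreducible g → g ∣ ∑ j ∈ Finset.range r, (X : F[X]) ^ j →
      g.natDegree = b := fun g hg hdvd =>
    Cfsg.Agent.Helper46.bgl_irr_factor_degree r hrF g hg hdvd
  have hdvd := cyc_dvd T r b hrF hTr hd U hU
  rw [hUk, finrank_bot, Nat.sub_zero] at hdvd
  have hUpos : 0 < finrank F U := by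
    rw [Nat.pos_iff_ne_zero]
    intro h0
    exact hU0 (Submodule.finrank_eq_zero.mp h0)
  have hble : b ≤ finrank F U := Nat.le_of_dvd hUpos hdvd
  have hkill : ∀ v ∈ U, aeval T (∑ j ∈ Finset.range r, (X : F[X]) ^ j) v ∈
      (⊥ : Submodule F V) := by
    intro v hv
    have h2 : aeval T (∑ j ∈ Finset.range r, (X : F[X]) ^ j) v ∈
        U ⊓ LinearMap.ker (T - 1) := by
      refine ⟨aeval_mem T U hU _ hv, ?_⟩
      rw [SetLike.mem_coe, LinearMap.mem_ker, ← Module.End.mul_apply,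
        sub_one_mul_aeval_phi T r hTr, LinearMap.zero_apply]
    rw [hUk] at h2
    exact h2
  obtain ⟨U₁, -, hU₁U, hU₁T, hU₁fr⟩ := chain_exists T ⊥ U bot_le (by simp) hU
    (∑ j ∈ Finset.range r, (X : F[X]) ^ j) (phi_ne_zero r hrF) hkill b hd 1 (by simpa using hble)
  rw [finrank_bot, zero_add, mul_one] at hU₁fr
  have hr0 : r ≠ 0 := hrpr.ne_zero
  have hTinj : Function.Injective T := by
    intro x y hxy
    have h1 : (T ^ r) x = (T ^ r) y := by
      obtain ⟨k, rfl⟩ := Nat.exists_eq_succ_of_ne_zero hr0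
      rw [pow_succ, Module.End.mul_apply, Module.End.mul_apply, hxy]
    simpa [hTr] using h1
  have hU₁eq : U₁.map T = U₁ := by
    apply Submodule.eq_of_le_of_finrank_eq hU₁T
    exact (LinearEquiv.finrank_eq (Submodule.equivMapOfInjective T hTinj U₁)).symm
  let R : Submodule F V :=
    { carrier := {v | v ∈ U₁ ∧ ∀ w ∈ U₁, h v w = 0}
      add_mem' := by
        rintro a b ⟨ha, ha'⟩ ⟨hb, hb'⟩
        refine ⟨U₁.add_mem ha hb, fun w hw => ?_⟩
        rw [hh.add_left, ha' w hw, hb' w hw, add_zero]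
      zero_mem' := ⟨U₁.zero_mem, fun w _ => hh.zero_left w⟩
      smul_mem' := by
        rintro c a ⟨ha, ha'⟩
        refine ⟨U₁.smul_mem c ha, fun w hw => ?_⟩
        rw [hh.smul_left, ha' w hw, mul_zero] }
  have hRmem : ∀ v, v ∈ R ↔ v ∈ U₁ ∧ ∀ w ∈ U₁, h v w = 0 := fun v => Iff.rfl
  refine ⟨R, fun v hv => hU₁U ((hRmem v).mp hv).1, ?_, ?_, ?_⟩
  · intro u hu v hv
    exact ((hRmem u).mp hu).2 v ((hRmem v).mp hv).1
  · rintro _ ⟨v, hv, rfl⟩
    have hv' := (hRmem v).mp hv
    refine (hRmem _).mpr ⟨hU₁T (Submodule.mem_map_of_mem hv'.1), fun w hw => ?_⟩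
    have hw' : w ∈ U₁.map T := by rw [hU₁eq]; exact hw
    obtain ⟨w₀, hw₀, rfl⟩ := hw'
    rw [hT]
    exact hv'.2 w₀ hw₀
  · intro hR
    have hnd : ∀ v : U₁, (∀ w : U₁, h (v : V) (w : V) = 0) → v = 0 := by
      intro v hv
      have hmem : (v : V) ∈ R := (hRmem _).mpr ⟨v.2, fun w hw => hv ⟨w, hw⟩⟩
      rw [hR, Submodule.mem_bot] at hmem
      exact Subtype.ext hmem
    let T₁ : Module.End F U₁ := T.restrict (fun v hv => hU₁T (Submodule.mem_map_of_mem hv))
    have hT₁c : ∀ v : U₁, ((T₁ v : U₁) : V) = T (v : V) := fun v => rfl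
    have hT₁ : HPres (fun u v : U₁ => h (u : V) (v : V)) T₁ := fun u v => hT u v
    have hpow : ∀ k : ℕ, ∀ v : U₁, (((T₁ ^ k) v : U₁) : V) = (T ^ k) (v : V) := by
      intro k
      induction k with
      | zero => intro v; simp
      | succ k ih =>
        intro v
        rw [pow_succ, Module.End.mul_apply, ih, pow_succ, Module.End.mul_apply, hT₁c]
    have hT₁r : T₁ ^ r = 1 := by
      refine LinearMap.ext fun v => Subtype.ext ?_
      rw [hpow, hTr]
      rfl
    have hT₁1 : T₁ ≠ 1 := by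
      intro h1
      have hfix : ∀ v ∈ U₁, v = 0 := by
        intro v hv
        have h2 : T v = v := by
          have h3 := hT₁c ⟨v, hv⟩
          rw [h1] at h3
          exact h3.symm
        have h4 : v ∈ U ⊓ LinearMap.ker (T - 1) :=
          ⟨hU₁U hv, (mem_ker_sub_one T v).mpr h2⟩
        rw [hUk] at h4
        exact (Submodule.mem_bot F).mp h4
      have hbot : U₁ = ⊥ := (Submodule.eq_bot_iff U₁).mpr hfix
      rw [hbot, finrank_bot] at hU₁fr
      omega
    obtain ⟨j, hj1, hjb, hrj⟩ := ht_guord σ (fun u v : U₁ => h (u : V) (v : V)) q hq hσ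
      (hh.restrict U₁) hnd T₁ hT₁ r hrq hT₁r hT₁1
    rw [hU₁fr] at hjb
    have hcj := (hall j hj1).1 hrj
    have h5 := Nat.le_of_dvd (by omega) hcj
    omega

end geom2

end Cfsg.Agent.Helper70.HT5953
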