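import Mathlib

set_option autoImplicit false

namespace Cfsg.Agent.Helper70

/-- For a normal subgroup `N` of a finite group, `|KN : K| = |N : N ∩ K|`. -/
theorem relIndex_sup_of_normal {G : Type*} [Group G] [Finite G] (N K : Subgroup G) [N.Normal] :
    K.relIndex (K ⊔ N) = K.relIndex N := by
  have h1 : (N ⊓ K).relIndex N * N.relIndex (K ⊔ N) = (N ⊓ K).relIndex (K ⊔ N) :=
    Subgroup.relIndex_mul_relIndex _ _ _ inf_le_left le_sup_right
  have h2 : (N ⊓ K).relIndex K * K.relIndex (K ⊔ N) = (N ⊓ K).relIndex (K ⊔ N) :=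
    Subgroup.relIndex_mul_relIndex _ _ _ inf_le_right le_sup_left
  rw [Subgroup.inf_relIndex_left, Subgroup.relIndex_sup_right] at h1
  rw [Subgroup.inf_relIndex_right] at h2
  have hb : N.relIndex K ≠ 0 := by
    unfold Subgroup.relIndex
    exact Subgroup.index_ne_zero_of_finite
  have : N.relIndex K * K.relIndex (K ⊔ N) = N.relIndex K * K.relIndex N := by
    rw [h2, ← h1, mul_comm]
  exact Nat.eq_of_mul_eq_mul_left (Nat.pos_of_ne_zero hb) this

/-- If `N` is normal and `N ⊔ K = ⊤` then `|G : K| = |N : N ∩ K|`. -/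
theorem index_eq_relIndex_of_sup_eq_top {G : Type*} [Group G] [Finite G] (N K : Subgroup G)
    [N.Normal] (h : K ⊔ N = ⊤) : K.index = K.relIndex N := by
  rw [← relIndex_sup_of_normal N K, h, Subgroup.relIndex_top_right]

/-- If `N` is a normal complement-like subgroup (`N ⊓ K = ⊥`, `K ⊔ N = ⊤`) then `|G : K| = |N|`. -/
theorem index_eq_card_of_sup_eq_top_of_inf_eq_bot {G : Type*} [Group G] [Finite G]
    (N K : Subgroup G) [N.Normal] (h : K ⊔ N = ⊤) (h' : N ⊓ K = ⊥) : K.index = Nat.card N := by
  rw [index_eq_relIndex_of_sup_eq_top N K h, ← Subgroup.inf_relIndex_left, h',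
    Subgroup.relIndex_bot_left]

/-- The image of a coatom containing the kernel under a surjective hom is a coatom. -/
theorem isCoatom_map_of_surjective {G H : Type*} [Group G] [Group H] (f : G →* H)
    (hf : Function.Surjective f) (M : Subgroup G) (hM : IsCoatom M) (hker : f.ker ≤ M) :
    IsCoatom (M.map f) := by
  refine ⟨?_, ?_⟩
  · intro h
    apply hM.1
    rw [← Subgroup.comap_map_eq_self hker, h, Subgroup.comap_top]
  · intro K hK
    have h1 : M < K.comap f := by
      rw [← Subgroup.comap_map_eq_self hker]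
      exact (Subgroup.comap_lt_comap_of_surjective hf).mpr hK
    have h2 := hM.2 _ h1
    rw [← Subgroup.map_comap_eq_self_of_surjective hf K, h2, ← MonoidHom.range_eq_map,
      MonoidHom.range_eq_top.mpr hf]

end Cfsg.Agent.Helper70
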