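import Mathlib
import Cfsg.Agent.Helper70.Gaschutz
import Cfsg.Agent.Helper70.Index
import Cfsg.Agent.Helper9.Supersolvable2

set_option autoImplicit false

namespace Cfsg.Agent.Helper70

open Subgroup
open scoped commutatorElement

universe u

/-! ### Complements in elementary abelian groups -/

/-- Every subgroup of a finite elementary abelian `p`-group has a complement. -/
theorem exists_compl_of_elementary {V : Type*} [Group V] [Finite V] (p : ℕ) [Fact p.Prime]
    (hc : ∀ a b : V, a * b = b * a) (hV : ∀ v : V, v ^ p = 1) (U : Subgroup V) :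
    ∃ K : Subgroup V, K ⊓ U = ⊥ ∧ K ⊔ U = ⊤ := by
  have hp : p.Prime := Fact.out
  have hnorm : ∀ H : Subgroup V, H.Normal := fun H =>
    ⟨fun n hn g => by rw [hc g n, mul_inv_cancel_right]; exact hn⟩
  obtain ⟨K, -, hKmax⟩ := Finite.exists_le_maximal (p := fun K : Subgroup V => K ⊓ U = ⊥)
    (a := ⊥) (by simp)
  have hK : K ⊓ U = ⊥ := hKmax.prop
  refine ⟨K, hK, ?_⟩
  by_contra hne
  obtain ⟨v, hv⟩ : ∃ v, v ∉ K ⊔ U := by
    by_contra h
    push Not at h
    exact hne (eq_top_iff.mpr fun x _ => h x)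
  have hK' : (K ⊔ zpowers v) ⊓ U = ⊥ := by
    rw [eq_bot_iff]
    intro x hx
    obtain ⟨hx1, hx2⟩ := Subgroup.mem_inf.mp hx
    have := hnorm (zpowers v)
    rw [← SetLike.mem_coe, Subgroup.mul_normal] at hx1
    obtain ⟨k, hk, z, hz, hxeq⟩ := hx1
    obtain ⟨i, rfl⟩ := Subgroup.mem_zpowers_iff.mp hz
    have hxeq' : k * v ^ i = x := hxeq
    subst hxeq'
    by_cases hvi : v ^ i = 1
    · rw [hvi, mul_one] at hx2 ⊢
      have : k ∈ K ⊓ U := ⟨hk, hx2⟩
      rwa [hK] at this
    · exfalso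
      apply hv
      have hviKU : v ^ i ∈ K ⊔ U := by
        have : v ^ i = k⁻¹ * (k * v ^ i) := by group
        rw [this]
        exact Subgroup.mul_mem _ (Subgroup.mem_sup_left (K.inv_mem hk))
          (Subgroup.mem_sup_right hx2)
      have hle : zpowers (v ^ i) ≤ zpowers v :=
        zpowers_le.mpr (Subgroup.zpow_mem _ (mem_zpowers v) i)
      have hcard : Nat.card (zpowers v) ≤ Nat.card (zpowers (v ^ i)) := by
        rw [Nat.card_zpowers, Nat.card_zpowers]
        have h1 : orderOf (v ^ i) ∣ p := orderOf_dvd_of_pow_eq_one (by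
          rw [← zpow_natCast, ← zpow_mul, mul_comm, zpow_mul, zpow_natCast, hV, one_zpow])
        have h2 : orderOf (v ^ i) ≠ 1 := by rwa [Ne, orderOf_eq_one_iff]
        have h3 : orderOf (v ^ i) = p := ((Nat.dvd_prime hp).mp h1).resolve_left h2
        rw [h3]
        exact Nat.le_of_dvd hp.pos (orderOf_dvd_of_pow_eq_one (hV v))
      have heq := Subgroup.eq_of_le_of_card_ge hle hcard
      have : v ∈ zpowers (v ^ i) := heq ▸ mem_zpowers v
      exact (zpowers_le.mpr hviKU) this
  have hle : K ≤ K ⊔ zpowers v := le_sup_left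
  have := hKmax.le_of_ge hK' hle
  exact hv (Subgroup.mem_sup_left (this (Subgroup.mem_sup_right (mem_zpowers v))))

/-- Gaschütz/Maschke: a normal subgroup `U` of `X` inside an elementary abelian `p`-subgroup
`V` of index prime to `p` has a complement in `X`. -/
theorem exists_complement_of_le_elementary {X : Type*} [Group X] [Finite X] (p : ℕ)
    [Fact p.Prime] (V U : Subgroup X) [U.Normal] (hUV : U ≤ V)
    (hVc : ∀ x ∈ V, ∀ y ∈ V, x * y = y * x) (hVp : ∀ x ∈ V, x ^ p = 1)
    (hidx : V.index.Coprime p) :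
    ∃ L : Subgroup X, L.IsComplement' U := by
  have hUc : IsMulCommutative U := ⟨⟨fun a b => Subtype.ext (hVc a (hUV a.2) b (hUV b.2))⟩⟩
  obtain ⟨K₀, hK₀1, hK₀2⟩ := exists_compl_of_elementary (V := ↥V) p
    (fun a b => Subtype.ext (hVc a a.2 b b.2))
    (fun v => Subtype.ext (by simpa using hVp v v.2)) (U.subgroupOf V)
  let K : Subgroup X := K₀.map V.subtype
  have hKU : K ⊓ U = ⊥ := by
    rw [eq_bot_iff]
    rintro x ⟨⟨k, hk, rfl⟩, hx2⟩
    have : k ∈ K₀ ⊓ U.subgroupOf V := ⟨hk, hx2⟩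
    rw [hK₀1, Subgroup.mem_bot] at this
    rw [this]; simp
  have hKsup : K ⊔ U = V := by
    have h1 : (K₀ ⊔ U.subgroupOf V).map V.subtype = V := by
      rw [hK₀2, ← MonoidHom.range_eq_map, Subgroup.range_subtype]
    rw [Subgroup.map_sup, Subgroup.subgroupOf_map_subtype, inf_of_le_left hUV] at h1
    exact h1
  obtain ⟨D, hD, hDU⟩ := exists_isCrossed_pow_index U K hKU
  rw [hKsup] at hDU
  have hbez : (V.index : ℤ) * Nat.gcdA V.index p + (p : ℤ) * Nat.gcdB V.index p = 1 := by
    have := Nat.gcd_eq_gcd_ab V.index p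
    rw [hidx.gcd_eq_one] at this
    exact_mod_cast this.symm
  have hmem : (V.index : ℤ) ∈ crossedExponents U :=
    mem_crossedExponents.mpr ⟨D, hD, fun a => by rw [hDU a, zpow_natCast]⟩
  have hmem2 : Nat.gcdA V.index p * (V.index : ℤ) ∈ crossedExponents U := by
    have := (crossedExponents U).zsmul_mem hmem (Nat.gcdA V.index p)
    simpa using this
  obtain ⟨D', hD', hD'U⟩ := mem_crossedExponents.mp hmem2
  refine exists_complement_of_isCrossed hD' ?_
  intro a
  rw [hD'U a]
  have hap : a ^ (p : ℤ) = 1 := by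
    rw [zpow_natCast]; exact Subtype.ext (by simpa using hVp a (hUV a.2))
  have : Nat.gcdA V.index p * (V.index : ℤ) = 1 - (p : ℤ) * Nat.gcdB V.index p := by linarith
  rw [this, zpow_sub, zpow_one, zpow_mul, hap, one_zpow, inv_one, mul_one]

/-- If all maximal subgroups have prime index, a minimal normal subgroup inside an elementary
abelian `p`-subgroup of index prime to `p` has prime order. -/
theorem card_prime_of_minimal_normal {X : Type*} [Group X] [Finite X]
    (h : ∀ M : Subgroup X, IsCoatom M → M.index.Prime) (p : ℕ) [Fact p.Prime]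
    (V U : Subgroup X) [U.Normal] (hUV : U ≤ V)
    (hVc : ∀ x ∈ V, ∀ y ∈ V, x * y = y * x) (hVp : ∀ x ∈ V, x ^ p = 1)
    (hidx : V.index.Coprime p) (hU0 : U ≠ ⊥)
    (hmin : ∀ N : Subgroup X, N.Normal → N ≤ U → N = ⊥ ∨ N = U) :
    (Nat.card U).Prime := by
  obtain ⟨L, hL⟩ := exists_complement_of_le_elementary p V U hUV hVc hVp hidx
  have hLtop : L ≠ ⊤ := by
    intro hLt
    apply hU0
    have := hL.disjoint
    rw [hLt] at this
    exact top_disjoint.mp this
  obtain ⟨M, hM, hLM⟩ := (eq_top_or_exists_le_coatom L).resolve_left hLtop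
  have hMU : M ⊔ U = ⊤ := eq_top_iff.mpr (hL.sup_eq_top ▸ sup_le_sup_right hLM U)
  have hNn : (M ⊓ U).Normal := by
    constructor
    intro x hx g
    have hg : g ∈ M ⊔ U := hMU ▸ Subgroup.mem_top g
    rw [← SetLike.mem_coe, Subgroup.mul_normal] at hg
    obtain ⟨m, hm, u, hu, rfl⟩ := hg
    have hxu : u * x * u⁻¹ = x := by rw [hVc u (hUV hu) x (hUV hx.2)]; group
    have : m * u * x * (m * u)⁻¹ = m * (u * x * u⁻¹) * m⁻¹ := by group
    rw [this, hxu]
    exact Subgroup.mem_inf.mpr ⟨M.mul_mem (M.mul_mem hm hx.1) (M.inv_mem hm),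
      Subgroup.Normal.conj_mem inferInstance x hx.2 m⟩
  rcases hmin _ hNn inf_le_right with h0 | h1
  · have := index_eq_card_of_sup_eq_top_of_inf_eq_bot U M hMU (by rw [inf_comm]; exact h0)
    rw [← this]; exact h M hM
  · exfalso
    have hUM : U ≤ M := inf_eq_right.mp h1
    exact hM.1 ((sup_of_le_left hUM).symm.trans hMU)

/-! ### Action on cyclic factors -/

/-- In a finite cyclic group, a subgroup is contained in any subgroup of the same order. -/
theorem le_of_card_eq_of_isCyclic {C : Type*} [Group C] [Finite C] [IsCyclic C]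
    (H K : Subgroup C) (h : Nat.card K = Nat.card H) : K ≤ H := by
  classical
  have : Fintype C := Fintype.ofFinite C
  intro x hx
  by_contra hxH
  have hn : 0 < Nat.card H := Nat.card_pos
  have hle := IsCyclic.card_pow_eq_one_le (α := C) hn
  have hsub : insert x ((H : Set C).toFinset) ⊆
      Finset.univ.filter (fun a : C => a ^ Nat.card H = 1) := by
    intro y hy
    rw [Finset.mem_insert] at hy
    rw [Finset.mem_filter]
    refine ⟨Finset.mem_univ _, ?_⟩
    rcases hy with rfl | hy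
    · rw [← h]
      have := pow_card_eq_one' (G := K) (x := ⟨y, hx⟩)
      exact congrArg Subtype.val this
    · rw [Set.mem_toFinset] at hy
      have := pow_card_eq_one' (G := H) (x := ⟨y, hy⟩)
      exact congrArg Subtype.val this
  have hcard := Finset.card_le_card hsub
  rw [Finset.card_insert_of_notMem (by rw [Set.mem_toFinset]; exact hxH)] at hcard
  have h2 : ((H : Set C).toFinset).card = Nat.card H := by
    rw [Set.toFinset_card, Nat.card_eq_fintype_card]; rfl
  rw [h2] at hcard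
  omega

/-- `(p-1)`-th powers centralize the elements of order dividing `p` of a normal cyclic
subgroup. -/
theorem pow_pred_conj_eq {Q : Type*} [Group Q] [Finite Q] (p : ℕ) [Fact p.Prime] (z : Q)
    (hn : (zpowers z).Normal) (a x : Q) (hx : x ∈ zpowers z) (hxp : x ^ p = 1) :
    a ^ (p - 1) * x * (a ^ (p - 1))⁻¹ = x := by
  have hp : p.Prime := Fact.out
  by_cases hx1 : x = 1
  · subst hx1; group
  have hox : orderOf x = p :=
    ((Nat.dvd_prime hp).mp (orderOf_dvd_of_pow_eq_one hxp)).resolve_left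
      (fun h => hx1 (orderOf_eq_one_iff.mp h))
  have hyz : a * x * a⁻¹ ∈ zpowers z := hn.conj_mem x hx a
  have hyp : (a * x * a⁻¹) ^ p = 1 := by rw [conj_pow, hxp]; group
  have hy1 : a * x * a⁻¹ ≠ 1 := by
    intro h; apply hx1
    have : x = a⁻¹ * (a * x * a⁻¹) * a := by group
    rw [this, h]; group
  have hoy : orderOf (a * x * a⁻¹) = p :=
    ((Nat.dvd_prime hp).mp (orderOf_dvd_of_pow_eq_one hyp)).resolve_left
      (fun h => hy1 (orderOf_eq_one_iff.mp h))
  have hyx : a * x * a⁻¹ ∈ zpowers x := by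
    have hcard : Nat.card (zpowers (⟨a * x * a⁻¹, hyz⟩ : zpowers z)) =
        Nat.card (zpowers (⟨x, hx⟩ : zpowers z)) := by
      rw [Nat.card_zpowers, Nat.card_zpowers, Subgroup.orderOf_mk, Subgroup.orderOf_mk, hox, hoy]
    have := le_of_card_eq_of_isCyclic (zpowers (⟨x, hx⟩ : zpowers z))
      (zpowers (⟨a * x * a⁻¹, hyz⟩ : zpowers z)) hcard
    have h1 := this (mem_zpowers (⟨a * x * a⁻¹, hyz⟩ : zpowers z))
    obtain ⟨i, hi⟩ := Subgroup.mem_zpowers_iff.mp h1
    have : x ^ i = a * x * a⁻¹ := by simpa using congrArg Subtype.val hi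
    rw [← this]; exact Subgroup.zpow_mem _ (mem_zpowers x) i
  obtain ⟨c, hc⟩ : ∃ c : ℕ, x ^ c = a * x * a⁻¹ :=
    (Submonoid.mem_powers_iff _ _).mp (mem_powers_iff_mem_zpowers.mpr hyx)
  have hiter : ∀ k : ℕ, a ^ k * x * (a ^ k)⁻¹ = x ^ (c ^ k) := by
    intro k
    induction k with
    | zero => simp
    | succ k ih =>
      have : a ^ (k + 1) * x * (a ^ (k + 1))⁻¹ = a * (a ^ k * x * (a ^ k)⁻¹) * a⁻¹ := by
        rw [pow_succ']; group
      rw [this, ih, ← conj_pow, ← hc, ← pow_mul, pow_succ']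
  rw [hiter (p - 1)]
  have hcop : Nat.Coprime c p := by
    rw [Nat.coprime_comm, Nat.Prime.coprime_iff_not_dvd hp]
    intro hdvd
    apply hy1
    obtain ⟨d, rfl⟩ := hdvd
    rw [← hc, pow_mul, hxp, one_pow]
  have hmod : c ^ (p - 1) ≡ 1 [MOD p] := by
    have := Nat.ModEq.pow_totient hcop
    rwa [Nat.totient_prime hp] at this
  have : x ^ (c ^ (p - 1)) = x ^ 1 := by
    rw [pow_eq_pow_iff_modEq, hox]; exact hmod
  rw [this, pow_one]

/-- Commutators and `(p-1)`-th powers. -/
def IsT (p : ℕ) {Q : Type*} [Group Q] (t : Q) : Prop :=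
  (∃ a b : Q, t = ⁅a, b⁆) ∨ ∃ a : Q, t = a ^ (p - 1)

theorem IsT.map {p : ℕ} {Q Q' : Type*} [Group Q] [Group Q'] (f : Q →* Q') {t : Q}
    (ht : IsT p t) : IsT p (f t) := by
  rcases ht with ⟨a, b, rfl⟩ | ⟨a, rfl⟩
  · exact Or.inl ⟨f a, f b, map_commutatorElement f a b⟩
  · exact Or.inr ⟨f a, map_pow f a _⟩

theorem IsT.conj_eq {p : ℕ} [Fact p.Prime] {Q : Type*} [Group Q] [Finite Q] {t : Q}
    (ht : IsT p t) (z : Q) (hn : (zpowers z).Normal) (x : Q) (hx : x ∈ zpowers z)
    (hxp : x ^ p = 1) : t * x * t⁻¹ = x := by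
  rcases ht with ⟨a, b, rfl⟩ | ⟨a, rfl⟩
  · obtain ⟨i, rfl⟩ := Subgroup.mem_zpowers_iff.mp hx
    rw [← conj_zpow, Helper9.commutatorElement_conj_zpowers z hn a b]
  · exact pow_pred_conj_eq p z hn a x hx hxp

/-- In a supersolvable group, commutators and `(p-1)`-th powers centralize every normal
elementary abelian `p`-subgroup of index prime to `p`. -/
theorem commute_of_isT_of_ss {Q : Type u} [Group Q] [Finite Q] (p : ℕ) [Fact p.Prime]
    (V : Subgroup Q) [V.Normal] (hVc : ∀ x ∈ V, ∀ y ∈ V, x * y = y * x)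
    (hVp : ∀ x ∈ V, x ^ p = 1) (hidx : V.index.Coprime p) {t : Q} (ht : IsT p t)
    {K : Subgroup Q} (hK : Helper9.SS K) : ∀ x ∈ K, x ∈ V → t * x * t⁻¹ = x := by
  induction hK with
  | bot =>
    intro x hx _
    rw [Subgroup.mem_bot] at hx
    subst hx; group
  | step K g hK hn ih =>
    intro x hx hxV
    have hKn := hK.normal
    have hmap : (K ⊔ zpowers g).map (QuotientGroup.mk' K) = zpowers (QuotientGroup.mk' K g) := by
      rw [Subgroup.map_sup, MonoidHom.map_zpowers, QuotientGroup.map_mk'_self, bot_sup_eq]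
    have hzn : (zpowers (QuotientGroup.mk' K g)).Normal :=
      hmap ▸ hn.map (QuotientGroup.mk' K) (QuotientGroup.mk'_surjective K)
    have hπx : QuotientGroup.mk' K x ∈ zpowers (QuotientGroup.mk' K g) :=
      hmap ▸ Subgroup.mem_map_of_mem (QuotientGroup.mk' K) hx
    have hπp : (QuotientGroup.mk' K x) ^ p = 1 := by rw [← map_pow, hVp x hxV, map_one]
    have hπ := (ht.map (QuotientGroup.mk' K)).conj_eq _ hzn _ hπx hπp
    have hzK : t * x * t⁻¹ * x⁻¹ ∈ K := by
      rw [← QuotientGroup.ker_mk' K, MonoidHom.mem_ker, map_mul, map_mul, map_mul, map_inv,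
        map_inv, hπ, mul_inv_cancel]
    have hzV : t * x * t⁻¹ * x⁻¹ ∈ V :=
      V.mul_mem (Subgroup.Normal.conj_mem inferInstance x hxV t) (V.inv_mem hxV)
    have hz := ih _ hzK hzV
    obtain ⟨z, hzdef⟩ : ∃ z, z = t * x * t⁻¹ * x⁻¹ := ⟨_, rfl⟩
    rw [← hzdef] at hzK hzV hz
    have hconj : t * x * t⁻¹ = z * x := by rw [hzdef]; group
    have hiter : ∀ k : ℕ, t ^ k * x * (t ^ k)⁻¹ = z ^ k * x := by
      intro k
      induction k with
      | zero => simp
      | succ k ihk =>
        have h1 : t ^ (k + 1) * x * (t ^ (k + 1))⁻¹ = t * (t ^ k * x * (t ^ k)⁻¹) * t⁻¹ := by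
          rw [pow_succ']; group
        have h2 : t * (z ^ k * x) * t⁻¹ = (t * z * t⁻¹) ^ k * (t * x * t⁻¹) := by
          rw [conj_pow]; group
        rw [h1, ihk, h2, hz, hconj, pow_succ, mul_assoc]

    have htn : t ^ V.index ∈ V := Subgroup.pow_index_mem V t
    have h3 := hiter V.index
    have h4 : t ^ V.index * x * (t ^ V.index)⁻¹ = x := by
      rw [hVc _ htn x hxV]; group
    rw [h4] at h3
    have hzn1 : z ^ V.index = 1 := by
      have := congrArg (fun w => w * x⁻¹) h3
      simpa using this.symm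
    have hz1 : z = 1 := (pow_eq_one_iff_of_coprime hidx).mp ⟨hzn1, hVp z hzV⟩
    rw [hconj, hz1, one_mul]

end Cfsg.Agent.Helper70
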