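import Mathlib
import Cfsg.Agent.Helper70.Huppert
import Cfsg.Agent.Helper70.FrattiniAut2
import Cfsg.Agent.Helper70.Schmidt2
import Cfsg.Agent.Helper35.Burnside
import Cfsg.Agent.S0580

set_option autoImplicit false

namespace Cfsg.Agent.Helper70

open Subgroup Polynomial
open scoped commutatorElement

universe u

/-- An endomorphism `φ` of a nontrivial finite elementary abelian `p`-group with
`φ ^ (p - 1) = 1` has an eigenvector. -/
theorem exists_eigen {N : Type*} [CommGroup N] [Finite N] [Nontrivial N] (p : ℕ) [Fact p.Prime]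
    (hN : ∀ n : N, n ^ p = 1) (φ : N →* N) (hφ : ∀ n, (φ^[p - 1]) n = n) :
    ∃ n : N, n ≠ 1 ∧ ∃ c : ℕ, φ n = n ^ c := by
  have hp : p.Prime := Fact.out
  let M := Additive N
  let _ : Module (ZMod p) M := AddCommGroup.zmodModule (n := p) (fun x => hN (Additive.toMul x))
  let f : M →ₗ[ZMod p] M := (MonoidHom.toAdditive φ).toZModLinearMap p
  have hfpow : f ^ (p - 1) = 1 := by
    apply LinearMap.ext
    intro m
    rw [Module.End.pow_apply]
    have : ∀ k : ℕ, ∀ m : M, (f^[k]) m = Additive.ofMul ((φ^[k]) (Additive.toMul m)) := by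
      intro k
      induction k with
      | zero => intro m; rfl
      | succ k ih =>
        intro m; rw [Function.iterate_succ_apply', Function.iterate_succ_apply', ih]; rfl
    rw [this, hφ]; rfl
  have hann : aeval f (X ^ p - X : (ZMod p)[X]) = 0 := by
    have h1 : f ^ p = f := by
      have h0 : f ^ p = f ^ (p - 1) * f := by
        rw [← pow_succ]; congr 1; have := hp.pos; omega
      rw [h0, hfpow, one_mul]
    simp [h1]
  have hdvd : minpoly (ZMod p) f ∣ (X ^ p - X : (ZMod p)[X]) := minpoly.dvd (ZMod p) f hann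
  have hsplit : Splits (X ^ p - X : (ZMod p)[X]) := by
    have := FiniteField.splits_X_pow_card_sub_X (p := p) (K := ZMod p)
    rw [ZMod.card, Algebra.algebraMap_self, Polynomial.map_id] at this
    exact this
  have hne0 : (X ^ p - X : (ZMod p)[X]) ≠ 0 :=
    FiniteField.X_pow_card_sub_X_ne_zero (ZMod p) hp.one_lt
  have hms : Splits (minpoly (ZMod p) f) := hsplit.of_dvd hne0 hdvd
  have hint : IsIntegral (ZMod p) f := Algebra.IsIntegral.isIntegral f
  have hdeg : (minpoly (ZMod p) f).degree ≠ 0 := (minpoly.degree_pos hint).ne'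
  obtain ⟨μ, hμ⟩ := hms.exists_eval_eq_zero hdeg
  have hev : Module.End.HasEigenvalue f μ := Module.End.hasEigenvalue_of_isRoot hμ
  obtain ⟨v, hv⟩ := hev.exists_hasEigenvector
  have hv1 : f v = μ • v := hv.apply_eq_smul
  have hv2 : v ≠ 0 := hv.2
  refine ⟨Additive.toMul v, ?_, μ.val, ?_⟩
  · intro h
    apply hv2
    exact h
  · have h3 : μ • v = μ.val • v := by
      conv_lhs => rw [← ZMod.natCast_zmod_val μ]
      exact Nat.cast_smul_eq_nsmul (ZMod p) μ.val v
    have h4 : f v = μ.val • v := by rw [hv1, h3]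
    exact h4

open scoped IsMulCommutative in
/-- Eigenvectors for conjugation on a normal elementary abelian `p`-subgroup. -/
theorem exists_eigen_conj {G : Type*} [Group G] [Finite G] (p : ℕ) [Fact p.Prime]
    (N : Subgroup G) [N.Normal] (hNc : ∀ x ∈ N, ∀ y ∈ N, x * y = y * x)
    (hNp : ∀ x ∈ N, x ^ p = 1) (hN0 : N ≠ ⊥) (g : G)
    (hg : ∀ n ∈ N, g ^ (p - 1) * n = n * g ^ (p - 1)) :
    ∃ n ∈ N, n ≠ 1 ∧ ∃ c : ℕ, g * n * g⁻¹ = n ^ c := by
  have hNcomm : IsMulCommutative N := ⟨⟨fun a b => Subtype.ext (hNc a a.2 b b.2)⟩⟩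
  have hNnt : Nontrivial N := (Subgroup.nontrivial_iff_ne_bot N).mpr hN0
  let φ : N →* N := (MulAut.conjNormal g : MulAut N).toMonoidHom
  have hφ1 : ∀ n : N, ((φ n : N) : G) = g * n * g⁻¹ := fun n => MulAut.conjNormal_apply g n
  have hiter : ∀ (k : ℕ) (n : N), (((φ^[k]) n : N) : G) = g ^ k * n * (g ^ k)⁻¹ := by
    intro k
    induction k with
    | zero => intro n; simp
    | succ k ih =>
      intro n
      rw [Function.iterate_succ_apply', hφ1, ih, pow_succ']; group
  obtain ⟨n, hn1, c, hc⟩ := exists_eigen p (fun n => Subtype.ext (by simpa using hNp n n.2)) φ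
    (fun n => Subtype.ext (by rw [hiter, hg n n.2]; group))
  refine ⟨n, n.2, fun h => hn1 (Subtype.ext h), c, ?_⟩
  have := congrArg Subtype.val hc
  rw [hφ1] at this
  simpa using this

/-- Key step of Huppert's theorem: a nontrivial finite group all of whose maximal subgroups
have prime index has a normal subgroup of prime order (given the theorem for smaller groups). -/
theorem exists_normal_prime_of_coatoms {G : Type u} [Group G] [Finite G] [Nontrivial G]
    (h : ∀ M : Subgroup G, IsCoatom M → M.index.Prime)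
    (ih : ∀ (Q : Type u) [Group Q] [Finite Q], Nat.card Q < Nat.card G →
      (∀ M : Subgroup Q, IsCoatom M → M.index.Prime) → Cfsg.IsSupersolvable Q) :
    ∃ N : Subgroup G, N.Normal ∧ (Nat.card N).Prime := by
  have hne : (Nat.card G).primeFactors.Nonempty := by
    rw [Nat.nonempty_primeFactors]; exact Finite.one_lt_card
  set p := (Nat.card G).primeFactors.max' hne with hp_def
  have hpmem : p ∈ (Nat.card G).primeFactors := Finset.max'_mem _ _
  have hpp : p.Prime := Nat.prime_of_mem_primeFactors hpmem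
  have hpd : p ∣ Nat.card G := Nat.dvd_of_mem_primeFactors hpmem
  have : Fact p.Prime := ⟨hpp⟩
  have hmax : ∀ q : ℕ, q.Prime → q ∣ Nat.card G → q ≤ p := by
    intro q hq hqd
    apply Finset.le_max'
    rw [Nat.mem_primeFactors]
    exact ⟨hq, hqd, Nat.card_pos.ne'⟩
  obtain ⟨P⟩ : Nonempty (Sylow p G) := inferInstance
  have hPn : (P : Subgroup G).Normal := Cfsg.Agent.S0580.sylow_normal_of_max h p hmax P
  have hP0 : (P : Subgroup G) ≠ ⊥ := P.ne_bot_of_dvd_card hpd
  have hPp : IsPGroup p (P : Subgroup G) := P.2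
  have hidx : (P : Subgroup G).index.Coprime p := by
    rw [Nat.coprime_comm, Nat.Prime.coprime_iff_not_dvd hpp]; exact P.not_dvd_index
  -- `Z₁ = Ω₁(Z(P))`
  let Z₁ : Subgroup G :=
    { carrier := {x | x ∈ (P : Subgroup G) ∧ (∀ y ∈ (P : Subgroup G), x * y = y * x) ∧ x ^ p = 1}
      one_mem' := ⟨Subgroup.one_mem _, fun y _ => by simp, one_pow p⟩
      mul_mem' := by
        rintro a b ⟨ha1, ha2, ha3⟩ ⟨hb1, hb2, hb3⟩
        refine ⟨Subgroup.mul_mem _ ha1 hb1, fun y hy => ?_, ?_⟩
        · rw [mul_assoc, hb2 y hy, ← mul_assoc, ha2 y hy, mul_assoc]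
        · have hcomm : Commute a b := ha2 b hb1
          rw [hcomm.mul_pow, ha3, hb3, one_mul]
      inv_mem' := by
        rintro a ⟨ha1, ha2, ha3⟩
        refine ⟨Subgroup.inv_mem _ ha1, fun y hy => ?_, by rw [inv_pow, ha3, inv_one]⟩
        have := ha2 y hy
        calc a⁻¹ * y = a⁻¹ * (y * a) * a⁻¹ := by group
          _ = a⁻¹ * (a * y) * a⁻¹ := by rw [this]
          _ = y * a⁻¹ := by group }
  have hZ₁mem : ∀ x, x ∈ Z₁ ↔
      x ∈ (P : Subgroup G) ∧ (∀ y ∈ (P : Subgroup G), x * y = y * x) ∧ x ^ p = 1 :=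
    fun x => Iff.rfl
  have hZ₁n : Z₁.Normal := by
    constructor
    intro x hx g
    obtain ⟨hx1, hx2, hx3⟩ := (hZ₁mem x).mp hx
    refine (hZ₁mem _).mpr ⟨hPn.conj_mem x hx1 g, fun y hy => ?_, by rw [conj_pow, hx3]; group⟩
    have hy' : g⁻¹ * y * g ∈ (P : Subgroup G) := by
      have := hPn.conj_mem y hy g⁻¹
      simpa using this
    have := hx2 _ hy'
    calc g * x * g⁻¹ * y = g * (x * (g⁻¹ * y * g)) * g⁻¹ := by group
      _ = g * ((g⁻¹ * y * g) * x) * g⁻¹ := by rw [this]
      _ = y * (g * x * g⁻¹) := by group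
  have hZ₁0 : Z₁ ≠ ⊥ := by
    have hnt : Nontrivial (P : Subgroup G) := (Subgroup.nontrivial_iff_ne_bot _).mpr hP0
    have hlt := hPp.bot_lt_center
    have hcp : IsPGroup p (Subgroup.center (P : Subgroup G)) := hPp.to_subgroup _
    have hcnt : Nontrivial (Subgroup.center (P : Subgroup G)) :=
      (Subgroup.nontrivial_iff_ne_bot _).mpr hlt.ne'
    have hdvd : p ∣ Nat.card (Subgroup.center (P : Subgroup G)) := by
      obtain ⟨k, hk⟩ := (IsPGroup.iff_card.mp hcp)
      rw [hk]
      have : k ≠ 0 := by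
        rintro rfl
        rw [pow_zero] at hk
        have := Finite.one_lt_card (α := Subgroup.center (P : Subgroup G))
        omega
      exact dvd_pow_self p this
    obtain ⟨x, hx⟩ := exists_prime_orderOf_dvd_card' p hdvd
    intro hbot
    have hxZ : ((x : (P : Subgroup G)) : G) ∈ Z₁ := by
      refine (hZ₁mem _).mpr ⟨(x : (P : Subgroup G)).2, fun y hy => ?_, ?_⟩
      · have := Subgroup.mem_center_iff.mp x.2 ⟨y, hy⟩
        exact (congrArg Subtype.val this).symm
      · have h1 : x ^ p = 1 := by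
          have h0 := pow_orderOf_eq_one x
          rwa [hx] at h0
        have h2 := congrArg (fun w : Subgroup.center (P : Subgroup G) =>
          ((w : (P : Subgroup G)) : G)) h1
        simpa using h2
    rw [hbot, Subgroup.mem_bot] at hxZ
    have : x = 1 := Subtype.ext (Subtype.ext hxZ)
    rw [this, orderOf_one] at hx
    exact hpp.one_lt.ne hx
  -- a minimal normal subgroup inside `Z₁`
  obtain ⟨N, hNle, hNmin⟩ := Finite.exists_le_minimal
    (p := fun N : Subgroup G => N.Normal ∧ N ≠ ⊥) (a := Z₁) ⟨hZ₁n, hZ₁0⟩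
  have hNn : N.Normal := hNmin.prop.1
  have hN0 : N ≠ ⊥ := hNmin.prop.2
  have hmin : ∀ N' : Subgroup G, N'.Normal → N' ≤ N → N' = ⊥ ∨ N' = N := by
    intro N' hN'n hle
    by_cases h0 : N' = ⊥
    · exact Or.inl h0
    · exact Or.inr (le_antisymm hle (hNmin.le_of_le ⟨hN'n, h0⟩ hle))
  have hNP : N ≤ (P : Subgroup G) := fun x hx => ((hZ₁mem x).mp (hNle hx)).1
  have hNcent : ∀ x ∈ N, ∀ y ∈ (P : Subgroup G), x * y = y * x :=
    fun x hx => ((hZ₁mem x).mp (hNle hx)).2.1
  have hNp : ∀ x ∈ N, x ^ p = 1 := fun x hx => ((hZ₁mem x).mp (hNle hx)).2.2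
  have hNc : ∀ x ∈ N, ∀ y ∈ N, x * y = y * x := fun x hx y hy => hNcent x hx y (hNP hy)
  -- the Frattini subgroup of `P`
  let Φ : Subgroup G := (frattini (P : Subgroup G)).map (P : Subgroup G).subtype
  have hΦn : Φ.Normal := ConjAct.normal_of_characteristic_of_normal
  have hfacts := frattini_pGroup_facts hPp
  have hΦP : Φ ≤ (P : Subgroup G) := Subgroup.map_subtype_le _
  have hcommΦ : ∀ x ∈ (P : Subgroup G), ∀ y ∈ (P : Subgroup G), x * y * x⁻¹ * y⁻¹ ∈ Φ := by
    intro x hx y hy
    have hc := hfacts.1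
    rw [_root_.commutator_def] at hc
    have : ⁅(⟨x, hx⟩ : (P : Subgroup G)), ⟨y, hy⟩⁆ ∈ frattini (P : Subgroup G) :=
      hc (Subgroup.commutator_mem_commutator (Subgroup.mem_top _) (Subgroup.mem_top _))
    exact ⟨_, this, by simp [commutatorElement_def]⟩
  have hpowΦ : ∀ x ∈ (P : Subgroup G), x ^ p ∈ Φ :=
    fun x hx => ⟨_, hfacts.2 ⟨x, hx⟩, by simp⟩
  by_cases hΦ : Φ = ⊥
  · -- `P` is elementary abelian
    have hPc : ∀ x ∈ (P : Subgroup G), ∀ y ∈ (P : Subgroup G), x * y = y * x := by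
      intro x hx y hy
      have := hcommΦ x hx y hy
      rw [hΦ, Subgroup.mem_bot] at this
      calc x * y = (x * y * x⁻¹ * y⁻¹) * (y * x) := by group
        _ = y * x := by rw [this, one_mul]
    have hPpow : ∀ x ∈ (P : Subgroup G), x ^ p = 1 := by
      intro x hx
      have := hpowΦ x hx
      rwa [hΦ, Subgroup.mem_bot] at this
    exact ⟨N, hNn,
      card_prime_of_minimal_normal h p (P : Subgroup G) N hNP hPc hPpow hidx hN0 hmin⟩
  · -- the quotient by `Φ` is supersolvable
    have hcard : Nat.card (G ⧸ Φ) < Nat.card G := by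
      have h1 := Subgroup.card_eq_card_quotient_mul_card_subgroup Φ
      have h2 : 1 < Nat.card Φ := (Subgroup.one_lt_card_iff_ne_bot _).mpr hΦ
      have h3 : 0 < Nat.card (G ⧸ Φ) := Nat.card_pos
      rw [h1]; nlinarith
    have hss : Cfsg.IsSupersolvable (G ⧸ Φ) := by
      refine ih (G ⧸ Φ) hcard ?_
      intro M hM
      have hc := Subgroup.isCoatom_comap_of_surjective (QuotientGroup.mk'_surjective Φ) hM
      have := h _ hc
      rwa [Subgroup.index_comap_of_surjective _ (QuotientGroup.mk'_surjective Φ)] at this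
    have hSS := Helper9.isSupersolvable_iff.mp hss
    let π := QuotientGroup.mk' Φ
    let V : Subgroup (G ⧸ Φ) := (P : Subgroup G).map π
    have hVn : V.Normal := hPn.map π (QuotientGroup.mk'_surjective Φ)
    have hVc : ∀ x ∈ V, ∀ y ∈ V, x * y = y * x := by
      rintro _ ⟨x, hx, rfl⟩ _ ⟨y, hy, rfl⟩
      have := hcommΦ x hx y hy
      have h1 : π (x * y * x⁻¹ * y⁻¹) = 1 := by
        rw [← MonoidHom.mem_ker, QuotientGroup.ker_mk']; exact this
      rw [map_mul, map_mul, map_mul, map_inv, map_inv] at h1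
      calc π x * π y = (π x * π y * (π x)⁻¹ * (π y)⁻¹) * (π y * π x) := by group
        _ = π y * π x := by rw [h1, one_mul]
    have hVp : ∀ x ∈ V, x ^ p = 1 := by
      rintro _ ⟨x, hx, rfl⟩
      rw [← map_pow, ← MonoidHom.mem_ker, QuotientGroup.ker_mk']
      exact hpowΦ x hx
    have hVidx : V.index.Coprime p := by
      have : V.index = (P : Subgroup G).index :=
        Subgroup.index_map_eq _ (QuotientGroup.mk'_surjective Φ)
          (by rw [QuotientGroup.ker_mk']; exact hΦP)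
      rw [this]; exact hidx
    -- commutators and `(p-1)`-th powers act trivially on `P/Φ`
    have hT : ∀ t : G, IsT p t → ∀ y ∈ (P : Subgroup G), t * y * t⁻¹ * y⁻¹ ∈ Φ := by
      intro t ht y hy
      have := commute_of_isT_of_ss p V hVc hVp hVidx (ht.map π) hSS (π y) (Subgroup.mem_top _)
        (Subgroup.mem_map_of_mem π hy)
      rw [← QuotientGroup.ker_mk' Φ, MonoidHom.mem_ker, map_mul, map_mul, map_mul, map_inv,
        map_inv, this, mul_inv_cancel]
    have hTpow : ∀ t : G, (∀ y ∈ (P : Subgroup G), t * y * t⁻¹ * y⁻¹ ∈ Φ) → ∀ k : ℕ,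
        ∀ y ∈ (P : Subgroup G), t ^ k * y * (t ^ k)⁻¹ * y⁻¹ ∈ Φ := by
      intro t ht k
      induction k with
      | zero => intro y _; simp
      | succ k ihk =>
        intro y hy
        have hy' : t ^ k * y * (t ^ k)⁻¹ ∈ (P : Subgroup G) := hPn.conj_mem y hy _
        have h1 := ht _ hy'
        have h2 := ihk y hy
        have : t ^ (k + 1) * y * (t ^ (k + 1))⁻¹ * y⁻¹ =
            (t * (t ^ k * y * (t ^ k)⁻¹) * t⁻¹ * (t ^ k * y * (t ^ k)⁻¹)⁻¹) *
              (t ^ k * y * (t ^ k)⁻¹ * y⁻¹) := by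
          rw [pow_succ']; group
        rw [this]
        exact Φ.mul_mem h1 h2
    -- hence they centralize `N`
    have hTN : ∀ t : G, IsT p t → ∀ n ∈ N, t * n = n * t := by
      intro t ht n hn
      obtain ⟨k, m, hm, hkm⟩ :=
        Nat.exists_eq_pow_mul_and_not_dvd (orderOf_pos t).ne' p hpp.ne_one
      have hcop : (p ^ k).Coprime m :=
        Nat.Coprime.pow_left k ((Nat.Prime.coprime_iff_not_dvd hpp).mpr hm)
      obtain ⟨t₁, t₂, ht₁z, ht₂z, hteq, ht₁, ht₂⟩ :=
        exists_decomp_of_coprime t (p ^ k) m hcop (by rw [← hkm]; exact pow_orderOf_eq_one t)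
      have ht₂P : t₂ ∈ (P : Subgroup G) := mem_sylow_of_pow_eq_one_of_normal P hPn t₂ k ht₂
      have h2 : t₂ * n = n * t₂ := (hNcent n hn t₂ ht₂P).symm
      have h1 : t₁ * n = n * t₁ := by
        obtain ⟨j, hj⟩ := (Submonoid.mem_powers_iff _ _).mp (mem_powers_iff_mem_zpowers.mpr ht₁z)
        have hF : ∀ y ∈ (P : Subgroup G), t₁ * y * t₁⁻¹ * y⁻¹ ∈
            (frattini ↥(P : Subgroup G)).map (P : Subgroup G).subtype := by
          intro y hy
          rw [← hj]
          exact hTpow t (hT t ht) j y hy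
        have hcop₁ : (orderOf t₁).Coprime p :=
          Nat.Coprime.coprime_dvd_left (orderOf_dvd_of_pow_eq_one ht₁)
            ((Nat.Prime.coprime_iff_not_dvd hpp).mpr hm).symm
        have hnorm₁ : t₁ ∈ Subgroup.normalizer ((P : Subgroup G) : Set G) := by
          rw [Subgroup.normalizer_eq_top_iff.mpr hPn]; exact Subgroup.mem_top _
        exact Helper35.centralizes_of_coprime_of_frattini hPp hnorm₁ hcop₁ hF n (hNP hn)
      rw [hteq, mul_assoc, h2, ← mul_assoc, h1, mul_assoc]
    -- every `g` acts on `N` as a power map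
    have hpowmap : ∀ g : G, ∃ c : ℕ, ∀ n ∈ N, g * n * g⁻¹ = n ^ c := by
      intro g
      obtain ⟨n₁, hn₁N, hn₁1, c, hc⟩ := exists_eigen_conj p N hNc hNp hN0 g
        (fun n hn => hTN _ (Or.inr ⟨g, rfl⟩) n hn)
      refine ⟨c, ?_⟩
      let E : Subgroup G :=
        { carrier := {n | n ∈ N ∧ g * n * g⁻¹ = n ^ c}
          one_mem' := ⟨N.one_mem, by simp⟩
          mul_mem' := by
            rintro a b ⟨ha1, ha2⟩ ⟨hb1, hb2⟩
            refine ⟨N.mul_mem ha1 hb1, ?_⟩
            have hcomm : Commute a b := hNc a ha1 b hb1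
            rw [hcomm.mul_pow, ← ha2, ← hb2]; group
          inv_mem' := by
            rintro a ⟨ha1, ha2⟩
            refine ⟨N.inv_mem ha1, ?_⟩
            rw [inv_pow, ← ha2]; group }
      have hEmem : ∀ n, n ∈ E ↔ n ∈ N ∧ g * n * g⁻¹ = n ^ c := fun n => Iff.rfl
      have hEn : E.Normal := by
        constructor
        intro n hn k
        obtain ⟨hn1, hn2⟩ := (hEmem n).mp hn
        refine (hEmem _).mpr ⟨hNn.conj_mem n hn1 k, ?_⟩
        obtain ⟨t, htdef⟩ : ∃ t, t = ⁅g⁻¹, k⁻¹⁆ := ⟨_, rfl⟩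
        have ht : IsT p t := Or.inl ⟨_, _, htdef⟩
        have hcent := hTN t ht n hn1
        have h1 : k⁻¹ * g * k = g * t := by rw [htdef, commutatorElement_def]; group
        have h2 : g * (k * n * k⁻¹) * g⁻¹ =
            k * ((k⁻¹ * g * k) * n * (k⁻¹ * g * k)⁻¹) * k⁻¹ := by group
        have h3 : (k⁻¹ * g * k) * n * (k⁻¹ * g * k)⁻¹ = g * n * g⁻¹ := by
          rw [h1]
          calc g * t * n * (g * t)⁻¹ = g * (t * n) * t⁻¹ * g⁻¹ := by group
            _ = g * n * g⁻¹ := by rw [hcent]; group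
        rw [h2, h3, hn2, conj_pow]
      have hE0 : E ≠ ⊥ := by
        intro hb
        have : n₁ ∈ E := (hEmem _).mpr ⟨hn₁N, hc⟩
        rw [hb, Subgroup.mem_bot] at this
        exact hn₁1 this
      have hEN : E ≤ N := fun x hx => ((hEmem x).mp hx).1
      have hEeq : E = N := (hmin E hEn hEN).resolve_left hE0
      intro n hn
      have : n ∈ E := hEeq ▸ hn
      exact ((hEmem n).mp this).2
    -- a normal subgroup of order `p`
    obtain ⟨n₀, hn₀N, hn₀1⟩ : ∃ n₀ ∈ N, n₀ ≠ 1 := by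
      by_contra hcon
      push Not at hcon
      exact hN0 (eq_bot_iff.mpr fun x hx => Subgroup.mem_bot.mpr (hcon x hx))
    refine ⟨zpowers n₀, ?_, ?_⟩
    · constructor
      intro x hx g
      obtain ⟨i, rfl⟩ := Subgroup.mem_zpowers_iff.mp hx
      obtain ⟨c, hc⟩ := hpowmap g
      rw [← conj_zpow, hc n₀ hn₀N]
      exact Subgroup.zpow_mem _ (Subgroup.pow_mem _ (mem_zpowers n₀) c) i
    · rw [Nat.card_zpowers]
      have : orderOf n₀ = p :=
        ((Nat.dvd_prime hpp).mp (orderOf_dvd_of_pow_eq_one (hNp n₀ hn₀N))).resolve_left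
          (fun h => hn₀1 (orderOf_eq_one_iff.mp h))
      rw [this]; exact hpp

end Cfsg.Agent.Helper70
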