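import Cfsg.Agent.Helper70.FrobComp
import Cfsg.Agent.Helper70.Ito
import Cfsg.Agent.Helper70.Schmidt2
import Cfsg.Agent.Helper70.FrobPrime

set_option autoImplicit false

/-!
Helper70: finite groups with a nilpotent maximal subgroup.  The skeleton of the
Thompson / Deskins / Janko solvability theorems: once normal `p`-complements are available
in the core-free case, the group is solvable.
-/

namespace Cfsg.Agent.Helper70

open Subgroup

universe u

section NilMax

variable {G : Type u} [Group G]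

/-- An element normalizing two subgroups normalizes their join. -/
theorem mem_normalizer_sup {A B : Subgroup G} {g : G} (hA : g ∈ normalizer (A : Set G))
    (hB : g ∈ normalizer (B : Set G)) : g ∈ normalizer ((A ⊔ B : Subgroup G) : Set G) := by
  have key : ∀ g : G, g ∈ normalizer (A : Set G) → g ∈ normalizer (B : Set G) →
      ∀ x ∈ A ⊔ B, g * x * g⁻¹ ∈ A ⊔ B := by
    intro g hA hB x hx
    have hle : A ⊔ B ≤ (A ⊔ B).comap (MulAut.conj g).toMonoidHom := by
      apply sup_le
      · intro a ha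
        rw [Subgroup.mem_comap]
        show g * a * g⁻¹ ∈ A ⊔ B
        exact (le_sup_left : A ≤ A ⊔ B) ((mem_normalizer_iff.mp hA a).mp ha)
      · intro b hb
        rw [Subgroup.mem_comap]
        show g * b * g⁻¹ ∈ A ⊔ B
        exact (le_sup_right : B ≤ A ⊔ B) ((mem_normalizer_iff.mp hB b).mp hb)
    have := hle hx
    rw [Subgroup.mem_comap] at this
    exact this
  rw [mem_normalizer_iff]
  intro h
  constructor
  · exact key g hA hB h
  · intro hh
    have := key g⁻¹ (inv_mem hA) (inv_mem hB) _ hh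
    have h2 : g⁻¹ * (g * h * g⁻¹) * g⁻¹⁻¹ = h := by group
    rwa [h2] at this

/-- If `H N = G` with `N` normal then `|G : H|` divides `|N|`. -/
theorem index_dvd_card_of_sup_eq_top [Finite G] (H N : Subgroup G) [N.Normal]
    (h : H ⊔ N = ⊤) : H.index ∣ Nat.card N := by
  have h1 : N.index = N.relIndex H := by
    have := Subgroup.relIndex_sup_right (H := H) (K := N)
    rw [h, Subgroup.relIndex_top_right] at this
    exact this
  have h2 : Nat.card N * N.index = Nat.card G := Subgroup.card_mul_index N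
  have h3 : Nat.card H * H.index = Nat.card G := Subgroup.card_mul_index H
  have h4 : Nat.card (N.subgroupOf H) * N.relIndex H = Nat.card H :=
    Subgroup.card_mul_index (N.subgroupOf H)
  have hpos : 0 < N.relIndex H := by
    rw [← h1]; exact Nat.pos_of_ne_zero Subgroup.index_ne_zero_of_finite
  have h5 : Nat.card N * N.relIndex H = (Nat.card (N.subgroupOf H) * H.index) * N.relIndex H := by
    rw [← h1, h2, ← h3, ← h4, h1]; ring
  have h6 := Nat.eq_of_mul_eq_mul_right hpos h5
  exact ⟨Nat.card (N.subgroupOf H), by rw [h6, mul_comm]⟩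

section Facts

variable [Finite G] {p : ℕ} [Fact p.Prime] (M : Subgroup G) [hnil : Group.IsNilpotent M]
  (P : Sylow p G) (hPM : (P : Subgroup G) ≤ M)

include hPM in
/-- A Sylow subgroup of `G` inside a nilpotent subgroup `M` contains all `p`-elements of `M`. -/
theorem nm_mem_sylow (x : G) (hx : x ∈ M) (k : ℕ) (hxk : x ^ p ^ k = 1) :
    x ∈ (P : Subgroup G) := by
  have hS : ((P.subtype hPM : Sylow p M) : Subgroup M).Normal := inferInstance
  have h1 := mem_sylow_of_pow_eq_one_of_normal (P.subtype hPM) hS ⟨x, hx⟩ k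
    (Subtype.ext (by simpa using hxk))
  rw [Sylow.coe_subtype, mem_subgroupOf] at h1
  exact h1

include hPM in
theorem nm_le_normalizer : M ≤ normalizer ((P : Subgroup G) : Set G) := by
  intro m hm
  rw [mem_normalizer_iff]
  intro x
  constructor
  · intro hx
    obtain ⟨k, hk⟩ := P.isPGroup' ⟨x, hx⟩
    have hxk : x ^ p ^ k = 1 := by simpa using congrArg Subtype.val hk
    apply nm_mem_sylow M P hPM _ (M.mul_mem (M.mul_mem hm (hPM hx)) (M.inv_mem hm)) k
    rw [conj_pow, hxk]; group
  · intro hx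
    obtain ⟨k, hk⟩ := P.isPGroup' ⟨_, hx⟩
    have hxk : (m * x * m⁻¹) ^ p ^ k = 1 := by simpa using congrArg Subtype.val hk
    have hxM : x ∈ M := by
      have h1 : m * x * m⁻¹ ∈ M := hPM hx
      have : x = m⁻¹ * (m * x * m⁻¹) * m := by group
      rw [this]; exact M.mul_mem (M.mul_mem (M.inv_mem hm) h1) hm
    apply nm_mem_sylow M P hPM x hxM k
    have h2 : m * x ^ p ^ k * m⁻¹ = 1 := by rw [← conj_pow]; exact hxk
    calc x ^ p ^ k = m⁻¹ * (m * x ^ p ^ k * m⁻¹) * m := by group
      _ = 1 := by rw [h2]; group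

include hPM in
/-- `p'`-elements of the nilpotent subgroup `M` centralize its Sylow `p`-subgroup. -/
theorem nm_commute (a : G) (ha : a ∈ M) (hcop : (orderOf a).Coprime p) (x : G)
    (hx : x ∈ (P : Subgroup G)) : x * a = a * x := by
  obtain ⟨k, hk⟩ := P.isPGroup' ⟨x, hx⟩
  have hxk : x ^ p ^ k = 1 := by simpa using congrArg Subtype.val hk
  have h := commute_of_isNilpotent (G := M) (p := p) ⟨x, hPM hx⟩ ⟨a, ha⟩ k
    (Subtype.ext (by simpa using hxk)) (by rwa [Subgroup.orderOf_mk])
  simpa using congrArg Subtype.val h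

include hPM in
/-- Every element of `M` is a product of a `p'`-element of `M` and an element of `P`. -/
theorem nm_decomp (m : G) (hm : m ∈ M) :
    ∃ u ∈ (P : Subgroup G), ∃ a ∈ M, (orderOf a).Coprime p ∧ m = a * u := by
  have hp := (Fact.out : p.Prime)
  obtain ⟨e, n', hn', hord⟩ :=
    Nat.exists_eq_pow_mul_and_not_dvd (orderOf_pos m).ne' p hp.ne_one
  have hpn : p.Coprime n' := (Nat.Prime.coprime_iff_not_dvd hp).mpr hn'
  have hcop : (p ^ e).Coprime n' := Nat.Coprime.pow_left e hpn
  obtain ⟨a₁, a₂, h1, h2, h3, h4, h5⟩ := exists_decomp_of_coprime m (p ^ e) n' hcop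
    (by rw [← hord]; exact pow_orderOf_eq_one m)
  have hzM : zpowers m ≤ M := by rw [zpowers_le]; exact hm
  refine ⟨a₂, nm_mem_sylow M P hPM a₂ (hzM h2) e h5, a₁, hzM h1, ?_, h3⟩
  have : orderOf a₁ ∣ n' := orderOf_dvd_of_pow_eq_one h4
  exact Nat.Coprime.coprime_dvd_left this hpn.symm

end Facts

/-- In the core-free case, nontrivial subgroups normalized by the maximal subgroup `M` have
normalizer `M`. -/
theorem nm_normalizer_eq {M : Subgroup G} (hM : IsCoatom M)
    (hcf : ∀ X : Subgroup G, X.Normal → X ≤ M → X = ⊥) (X : Subgroup G) (hXM : X ≤ M)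
    (hX : X ≠ ⊥) (hMX : M ≤ normalizer (X : Set G)) : normalizer (X : Set G) = M := by
  by_contra hne
  have hlt : M < normalizer (X : Set G) := lt_of_le_of_ne hMX (Ne.symm hne)
  have htop := hM.2 _ hlt
  exact hX (hcf X (normalizer_eq_top_iff.mp htop) hXM)

/-- In the core-free case the nilpotent maximal subgroup is a Hall subgroup. -/
theorem nm_exists_sylow [Finite G] {M : Subgroup G} (hM : IsCoatom M)
    [hnil : Group.IsNilpotent M] (hcf : ∀ X : Subgroup G, X.Normal → X ≤ M → X = ⊥)
    (p : ℕ) [hp : Fact p.Prime] (hpM : p ∣ Nat.card M) :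
    ∃ P : Sylow p G, (P : Subgroup G) ≤ M ∧ (P : Subgroup G) ≠ ⊥ := by
  obtain ⟨S⟩ : Nonempty (Sylow p M) := inferInstance
  have hSn : (S : Subgroup M).Normal := inferInstance
  have hSb : (S : Subgroup M) ≠ ⊥ := S.ne_bot_of_dvd_card hpM
  set P₀ : Subgroup G := (S : Subgroup M).map M.subtype with hP₀
  have hP₀M : P₀ ≤ M := by
    rintro _ ⟨y, -, rfl⟩
    exact y.2
  have hP₀b : P₀ ≠ ⊥ := by
    intro h
    apply hSb
    rw [hP₀] at h
    exact (Subgroup.map_eq_bot_iff_of_injective _ M.subtype_injective).mp h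
  have hP₀p : IsPGroup p P₀ := S.isPGroup'.map M.subtype
  have hMP₀ : M ≤ normalizer (P₀ : Set G) := by
    have h1 := Subgroup.le_normalizer_map (H := (S : Subgroup M)) M.subtype
    rw [normalizer_eq_top_iff.mpr hSn] at h1
    refine le_trans ?_ h1
    intro m hm
    exact ⟨⟨m, hm⟩, Subgroup.mem_top _, rfl⟩
  have hN := nm_normalizer_eq hM hcf P₀ hP₀M hP₀b hMP₀
  obtain ⟨P, hP⟩ := hP₀p.exists_le_sylow
  have heq : P₀ = (P : Subgroup G) := by
    by_contra hne
    have hlt : P₀ < (P : Subgroup G) := lt_of_le_of_ne hP hne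
    obtain ⟨x, hxP, hxN, hxP₀⟩ := exists_mem_normalizer_not_mem_of_lt (P : Subgroup G) P₀
      P.isPGroup' hlt
    rw [hN] at hxN
    apply hxP₀
    obtain ⟨k, hk⟩ := P.isPGroup' ⟨x, hxP⟩
    have hxk : x ^ p ^ k = 1 := by simpa using congrArg Subtype.val hk
    have h1 := mem_sylow_of_pow_eq_one_of_normal S hSn ⟨x, hxN⟩ k
      (Subtype.ext (by simpa using hxk))
    exact ⟨⟨x, hxN⟩, h1, rfl⟩
  exact ⟨P, heq ▸ hP₀M, heq ▸ hP₀b⟩

/-- **Skeleton.** A finite group with a core-free nilpotent maximal subgroup `M ≠ 1`, having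
normal `p`-complements for the primes dividing `|M|`, is solvable. -/
theorem solvable_of_corefree_npc [Finite G] {M : Subgroup G} (hM : IsCoatom M)
    [hnil : Group.IsNilpotent M] (hMb : M ≠ ⊥)
    (hcf : ∀ X : Subgroup G, X.Normal → X ≤ M → X = ⊥)
    (hnpc : ∀ (p : ℕ) [Fact p.Prime] (P : Sylow p G), (P : Subgroup G) ≤ M →
      (P : Subgroup G) ≠ ⊥ → HasNPC p G) :
    Group.IsSolvable G := by
  classical
  have hsyl : ∀ p : ℕ, p.Prime → p ∣ Nat.card M →
      ∃ P : Sylow p G, (P : Subgroup G) ≤ M ∧ (P : Subgroup G) ≠ ⊥ := by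
    intro p hp hd
    have : Fact p.Prime := ⟨hp⟩
    exact nm_exists_sylow hM hcf p hd
  have hK : ∀ q : {p : ℕ // p.Prime ∧ p ∣ Nat.card M}, HasNPC q.1 G := by
    intro q
    have : Fact q.1.Prime := ⟨q.2.1⟩
    obtain ⟨P, h1, h2⟩ := hsyl q.1 q.2.1 q.2.2
    exact hnpc q.1 P h1 h2
  choose K hKn hKc hKi using hK
  let N : Subgroup G := ⨅ q : {p : ℕ // p.Prime ∧ p ∣ Nat.card M}, K q
  have hNn : N.Normal := Subgroup.normal_iInf_normal hKn
  have hmemN : ∀ x : G, (orderOf x).Coprime (Nat.card M) → x ∈ N := by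
    intro x hx
    rw [Subgroup.mem_iInf]
    intro q
    have := hKn q
    obtain ⟨k, hk⟩ := hKi q
    exact mem_of_coprime_orderOf_of_index_pow (K q) hk x (Nat.Coprime.coprime_dvd_right q.2.2 hx)
  have hNM : N ⊓ M = ⊥ := by
    rw [eq_bot_iff]
    rintro x ⟨hxN, hxM⟩
    rw [Subgroup.mem_bot]
    by_contra hx1
    have h1 : orderOf x ≠ 1 := fun h => hx1 (orderOf_eq_one_iff.mp h)
    obtain ⟨p, hp, hpd⟩ := Nat.exists_prime_and_dvd h1
    have hpM : p ∣ Nat.card M := hpd.trans (by
      have := orderOf_dvd_natCard (⟨x, hxM⟩ : M)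
      rwa [Subgroup.orderOf_mk] at this)
    have hxK : x ∈ K ⟨p, hp, hpM⟩ := (Subgroup.mem_iInf.mp hxN) _
    have h2 : orderOf x ∣ Nat.card (K ⟨p, hp, hpM⟩) := by
      have := orderOf_dvd_natCard (⟨x, hxK⟩ : K ⟨p, hp, hpM⟩)
      rwa [Subgroup.orderOf_mk] at this
    have h3 : p ∣ Nat.card (K ⟨p, hp, hpM⟩) := hpd.trans h2
    have h4 := hKc ⟨p, hp, hpM⟩
    exact hp.one_lt.ne' (Nat.Coprime.eq_one_of_dvd h4.symm h3)
  have hr : ∃ r : ℕ, r.Prime ∧ r ∣ Nat.card G ∧ ¬ r ∣ Nat.card M := by
    have hidx : M.index ≠ 1 := fun h => hM.1 (Subgroup.index_eq_one.mp h)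
    obtain ⟨r, hr, hrd⟩ := Nat.exists_prime_and_dvd hidx
    refine ⟨r, hr, hrd.trans (Subgroup.index_dvd_card M), ?_⟩
    intro hrM
    have : Fact r.Prime := ⟨hr⟩
    obtain ⟨P, hPM, -⟩ := hsyl r hr hrM
    have h1 : M.index ∣ (P : Subgroup G).index := Subgroup.index_dvd_of_le hPM
    exact P.not_dvd_index (hrd.trans h1)
  obtain ⟨r, hr, hrG, hrM⟩ := hr
  have : Fact r.Prime := ⟨hr⟩
  have hcopr : ∀ k, (r ^ k).Coprime (Nat.card M) := fun k =>
    Nat.Coprime.pow_left k ((Nat.Prime.coprime_iff_not_dvd hr).mpr hrM)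
  have hRN : ∀ R : Sylow r G, (R : Subgroup G) ≤ N := by
    intro R x hx
    apply hmemN
    obtain ⟨k, hk⟩ := R.isPGroup' ⟨x, hx⟩
    have hxk : x ^ r ^ k = 1 := by simpa using congrArg Subtype.val hk
    exact Nat.Coprime.coprime_dvd_left (orderOf_dvd_of_pow_eq_one hxk) (hcopr k)
  have hRb : ∀ R : Sylow r G, (R : Subgroup G) ≠ ⊥ := fun R => R.ne_bot_of_dvd_card hrG
  have hMc : Nat.card M ≠ 1 := fun h => hMb (Subgroup.card_eq_one.mp h)
  obtain ⟨p, hp, hpM⟩ := Nat.exists_prime_and_dvd hMc
  have : Fact p.Prime := ⟨hp⟩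
  obtain ⟨P, hPM, hPb⟩ := hsyl p hp hpM
  have hNP : normalizer ((P : Subgroup G) : Set G) = M :=
    nm_normalizer_eq hM hcf P hPM hPb (nm_le_normalizer M P hPM)
  have hNp : (Nat.card N).Coprime p := by
    have h1 : N ≤ K ⟨p, hp, hpM⟩ := iInf_le _ _
    exact Nat.Coprime.coprime_dvd_left (Subgroup.card_dvd_of_le h1) (hKc ⟨p, hp, hpM⟩)
  obtain ⟨R₀⟩ : Nonempty (Sylow r G) := inferInstance
  have hfix : ∃ R : Sylow r G, (P : Subgroup G) ≤ normalizer ((R : Subgroup G) : Set G) := by
    have hcard : ¬ p ∣ Nat.card (Sylow r G) := by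
      rw [R₀.card_eq_index_normalizer]
      have hF : normalizer ((R₀ : Subgroup G) : Set G) ⊔ N = ⊤ :=
        Sylow.normalizer_sup_eq_top' R₀ (hRN R₀)
      have hdvd : (normalizer ((R₀ : Subgroup G) : Set G)).index ∣ Nat.card N :=
        index_dvd_card_of_sup_eq_top _ _ hF
      intro hpd
      exact hp.one_lt.ne' (Nat.Coprime.eq_one_of_dvd hNp.symm (hpd.trans hdvd))
    obtain ⟨R, hR⟩ := P.isPGroup'.nonempty_fixed_point_of_prime_not_dvd_card (Sylow r G) hcard
    refine ⟨R, fun x hx => ?_⟩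
    have h1 : x • R = R := hR ⟨x, hx⟩
    exact Sylow.smul_eq_iff_mem_normalizer.mp h1
  obtain ⟨R, hPR⟩ := hfix
  have hFR : normalizer ((R : Subgroup G) : Set G) ⊔ N = ⊤ :=
    Sylow.normalizer_sup_eq_top' R (hRN R)
  have hNb : N ≠ ⊥ := fun h => hRb R (le_bot_iff.mp (h ▸ hRN R))
  have hNMtop : N ⊔ M = ⊤ := by
    apply hM.2
    refine lt_of_le_of_ne le_sup_right ?_
    intro h
    have h1 : N ≤ M := by rw [h]; exact le_sup_left
    exact hNb (le_bot_iff.mp (hNM ▸ le_inf le_rfl h1))
  have hNPn : (N ⊔ (P : Subgroup G)).Normal := by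
    rw [← normalizer_eq_top_iff, eq_top_iff, ← hNMtop]
    apply sup_le
    · exact le_sup_left.trans le_normalizer
    · intro m hm
      refine mem_normalizer_sup ?_ (hNP ▸ hm)
      rw [normalizer_eq_top_iff.mpr hNn]; trivial
  have hMH : M ≤ normalizer ((R : Subgroup G) : Set G) := by
    have key : ∀ h ∈ normalizer ((R : Subgroup G) : Set G), ∃ m'' ∈ M,
        m'' ∈ normalizer ((R : Subgroup G) : Set G) ∧ h * m''⁻¹ ∈ N := by
      intro h hh
      let L : Subgroup G := normalizer ((R : Subgroup G) : Set G) ⊓ (N ⊔ (P : Subgroup G))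
      have hPL : (P : Subgroup G) ≤ L := le_inf hPR le_sup_right
      have hhPL : ((h • P : Sylow p G) : Subgroup G) ≤ L := by
        intro x hx
        rw [sylow_mem_smul_iff] at hx
        have hx' : x = h * (h⁻¹ * x * h) * h⁻¹ := by group
        rw [hx']
        exact ⟨Subgroup.mul_mem _ (Subgroup.mul_mem _ hh (hPR hx)) (Subgroup.inv_mem _ hh),
          hNPn.conj_mem _ ((le_sup_right : (P : Subgroup G) ≤ N ⊔ (P : Subgroup G)) hx) h⟩
      obtain ⟨l, hl⟩ := MulAction.exists_smul_eq L (P.subtype hPL) ((h • P).subtype hhPL)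
      have hnorm : (l : G)⁻¹ * h ∈ normalizer ((P : Subgroup G) : Set G) := by
        apply Sylow.smul_eq_iff_mem_normalizer.mp
        have hle : ((h • P : Sylow p G) : Subgroup G) ≤ (((l : G) • P : Sylow p G) : Subgroup G) := by
          intro x hx
          have hxL : x ∈ L := hhPL hx
          have h1 : (⟨x, hxL⟩ : L) ∈ (((h • P).subtype hhPL : Sylow p L) : Subgroup L) := by
            rw [Sylow.coe_subtype, mem_subgroupOf]; exact hx
          rw [← hl, sylow_mem_smul_iff, Sylow.coe_subtype, mem_subgroupOf] at h1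
          rw [sylow_mem_smul_iff]
          exact h1
        have heq : (h • P : Sylow p G) = (l : G) • P :=
          Sylow.ext ((h • P).is_maximal' ((l : G) • P).isPGroup' hle).symm
        rw [mul_smul, heq, inv_smul_smul]
      rw [hNP] at hnorm
      have hlNP : (l : G) ∈ N ⊔ (P : Subgroup G) := l.2.2
      obtain ⟨n, hn, u, hu, hnu⟩ : ∃ n ∈ N, ∃ u ∈ (P : Subgroup G), n * u = (l : G) := by
        have : (l : G) ∈ ((N ⊔ (P : Subgroup G) : Subgroup G) : Set G) := hlNP
        rw [Subgroup.normal_mul] at this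
        exact Set.mem_mul.mp this
      refine ⟨u * ((l : G)⁻¹ * h), M.mul_mem (hPM hu) hnorm,
        Subgroup.mul_mem _ (hPR hu) (Subgroup.mul_mem _ (Subgroup.inv_mem _ l.2.1) hh), ?_⟩
      have : h * (u * ((l : G)⁻¹ * h))⁻¹ = n := by rw [← hnu]; group
      rw [this]; exact hn
    intro m hm
    have hmtop : m ∈ normalizer ((R : Subgroup G) : Set G) ⊔ N := by rw [hFR]; trivial
    obtain ⟨h, hh, n₁, hn₁, hm'⟩ : ∃ h ∈ normalizer ((R : Subgroup G) : Set G),
        ∃ n₁ ∈ N, h * n₁ = m := by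
      have : m ∈ ((normalizer ((R : Subgroup G) : Set G) ⊔ N : Subgroup G) : Set G) := hmtop
      rw [Subgroup.mul_normal] at this
      exact Set.mem_mul.mp this
    obtain ⟨m'', hm''M, hm''H, hN'⟩ := key h hh
    have h1 : m * m''⁻¹ ∈ N := by
      have : m * m''⁻¹ = (h * m''⁻¹) * (m'' * n₁ * m''⁻¹) := by rw [← hm']; group
      rw [this]
      exact N.mul_mem hN' (hNn.conj_mem n₁ hn₁ m'')
    have h2 : m * m''⁻¹ ∈ M := M.mul_mem hm (M.inv_mem hm''M)
    have h3 : m * m''⁻¹ = 1 := by
      have : m * m''⁻¹ ∈ N ⊓ M := ⟨h1, h2⟩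
      rwa [hNM, Subgroup.mem_bot] at this
    have h4 : m = m'' := mul_inv_eq_one.mp h3
    rw [h4]; exact hm''H
  have hRM : ¬ (R : Subgroup G) ≤ M := by
    intro h
    exact hRb R (le_bot_iff.mp (hNM ▸ le_inf (hRN R) h))
  have hHtop : normalizer ((R : Subgroup G) : Set G) = ⊤ := by
    apply hM.2
    refine lt_of_le_of_ne hMH ?_
    intro h
    exact hRM (h ▸ le_normalizer)
  have hRn : (R : Subgroup G).Normal := normalizer_eq_top_iff.mp hHtop
  have hRMtop : (R : Subgroup G) ⊔ M = ⊤ := by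
    apply hM.2
    refine lt_of_le_of_ne le_sup_right ?_
    intro h
    exact hRM (by rw [h]; exact le_sup_left)
  have hRsol : Group.IsSolvable (R : Subgroup G) := by
    have : Group.IsNilpotent (R : Subgroup G) := R.isPGroup'.isNilpotent
    infer_instance
  have hMsol : Group.IsSolvable M := inferInstance
  have hQsol : Group.IsSolvable (G ⧸ (R : Subgroup G)) := by
    let f : M →* G ⧸ (R : Subgroup G) := (QuotientGroup.mk' (R : Subgroup G)).comp M.subtype
    have hf : Function.Surjective f := by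
      intro y
      obtain ⟨g, rfl⟩ := QuotientGroup.mk_surjective y
      have hg : g ∈ (((R : Subgroup G) ⊔ M : Subgroup G) : Set G) := by rw [hRMtop]; trivial
      rw [Subgroup.normal_mul] at hg
      obtain ⟨x, hx, m, hm, rfl⟩ := Set.mem_mul.mp hg
      refine ⟨⟨m, hm⟩, ?_⟩
      show ((m : G) : G ⧸ (R : Subgroup G)) = ((x * m : G) : G ⧸ (R : Subgroup G))
      rw [QuotientGroup.mk_mul, (QuotientGroup.eq_one_iff x).mpr hx, one_mul]
    exact Group.isSolvable_of_surjective hf
  refine Group.isSolvable_of_ker_le_range (R : Subgroup G).subtype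
    (QuotientGroup.mk' (R : Subgroup G)) ?_
  rw [QuotientGroup.ker_mk', Subgroup.range_subtype]

/-- **Solvability skeleton** for finite groups with a nilpotent maximal subgroup enjoying a
quotient-closed property `Pr`: it suffices to produce normal `p`-complements in the core-free
case. -/
theorem solvable_of_nilpotent_coatom_aux
    (Pr : ∀ (Γ : Type u) [Group Γ], Prop)
    (hquot : ∀ (Γ Γ' : Type u) [Group Γ] [Group Γ'] [Finite Γ] (f : Γ →* Γ'),
      Function.Surjective f → Pr Γ → Pr Γ')
    (hnpc : ∀ (G : Type u) [Group G] [Finite G] (M : Subgroup G), IsCoatom M →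
      Group.IsNilpotent M → Pr M → (∀ X : Subgroup G, X.Normal → X ≤ M → X = ⊥) →
      ∀ (p : ℕ) [Fact p.Prime] (P : Sylow p G), (P : Subgroup G) ≤ M →
        (P : Subgroup G) ≠ ⊥ → HasNPC p G) :
    ∀ (n : ℕ) (G : Type u) [Group G] [Finite G], Nat.card G = n → ∀ M : Subgroup G,
      IsCoatom M → Group.IsNilpotent M → Pr M → Group.IsSolvable G := by
  intro n
  induction n using Nat.strong_induction_on with
  | _ n ih =>
    intro G _ _ hcard M hM hnil hPr
    by_cases hcf : ∀ X : Subgroup G, X.Normal → X ≤ M → X = ⊥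
    · by_cases hMb : M = ⊥
      · subst hMb
        apply Group.isSolvable_of_comm
        intro a b
        by_cases ha : a = 1
        · subst ha; simp
        · have hz : zpowers a = ⊤ := by
            apply hM.2
            exact bot_lt_iff_ne_bot.mpr (by rwa [Ne, zpowers_eq_bot])
          have hb : b ∈ zpowers a := by rw [hz]; trivial
          obtain ⟨k, rfl⟩ := mem_zpowers_iff.mp hb
          exact ((Commute.refl a).zpow_right k).eq
      · exact solvable_of_corefree_npc hM hMb hcf
          (fun p _ P h1 h2 => hnpc G M hM hnil hPr hcf p P h1 h2)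
    · push Not at hcf
      obtain ⟨X, hXn, hXM, hXb⟩ := hcf
      have hlt : Nat.card (G ⧸ X) < n := by
        rw [← hcard, ← Subgroup.index_eq_card, ← Subgroup.card_mul_index X]
        have h1 : 1 < Nat.card X := by
          have h0 : Nat.card X ≠ 1 := fun h => hXb (Subgroup.card_eq_one.mp h)
          have h0' : 0 < Nat.card X := Nat.card_pos
          omega
        have h2 : 0 < X.index := Nat.pos_of_ne_zero Subgroup.index_ne_zero_of_finite
        nlinarith
      have hπ : Function.Surjective (QuotientGroup.mk' X) := QuotientGroup.mk'_surjective X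
      have hcomap : (M.map (QuotientGroup.mk' X)).comap (QuotientGroup.mk' X) = M := by
        rw [QuotientGroup.comap_map_mk']; exact sup_eq_right.mpr hXM
      have hM' : IsCoatom (M.map (QuotientGroup.mk' X)) := by
        constructor
        · intro h
          apply hM.1
          rw [← hcomap, h, Subgroup.comap_top]
        · intro K' hK'
          have h1 : (M.map (QuotientGroup.mk' X)).comap (QuotientGroup.mk' X) <
              K'.comap (QuotientGroup.mk' X) :=
            (Subgroup.comap_lt_comap_of_surjective hπ).mpr hK'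
          rw [hcomap] at h1
          have h2 := hM.2 _ h1
          rw [← Subgroup.map_comap_eq_self_of_surjective hπ K', h2,
            Subgroup.map_top_of_surjective _ hπ]
      have hnil' : Group.IsNilpotent (M.map (QuotientGroup.mk' X)) :=
        Group.nilpotent_of_surjective ((QuotientGroup.mk' X).subgroupMap M)
          ((QuotientGroup.mk' X).subgroupMap_surjective M)
      have hPr' : Pr (M.map (QuotientGroup.mk' X)) :=
        hquot M (M.map (QuotientGroup.mk' X)) ((QuotientGroup.mk' X).subgroupMap M)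
          ((QuotientGroup.mk' X).subgroupMap_surjective M) hPr
      have hsolQ : Group.IsSolvable (G ⧸ X) :=
        ih _ hlt (G ⧸ X) rfl (M.map (QuotientGroup.mk' X)) hM' hnil' hPr'
      have hsolX : Group.IsSolvable X := by
        have h1 : Group.IsNilpotent (X.subgroupOf M) := inferInstance
        have h2 : Group.IsNilpotent X :=
          Group.nilpotent_of_mulEquiv (Subgroup.subgroupOfEquivOfLe hXM)
        infer_instance
      refine Group.isSolvable_of_ker_le_range X.subtype (QuotientGroup.mk' X) ?_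
      rw [QuotientGroup.ker_mk', Subgroup.range_subtype]

end NilMax

end Cfsg.Agent.Helper70
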