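import Mathlib
import Cfsg.Agent.Helper43.SingCount

set_option autoImplicit false

/-! # S5972 piece SINGV (helper70): the number of singular vectors of `quadFormOdd`. -/

namespace Cfsg.Agent.Helper70.OTS

open Matrix in
/-- PIECE SINGV: the number of singular vectors (`Cfsg.Agent.Helper43.SingCount.card_sing` with
`k = d`, `W = F`, `QW w = w ^ 2`, and a bijection). -/
theorem osing_card (F : Type*) [Field F] [Fintype F] (d : ℕ) :
    Nat.card {x : Unit ⊕ (Fin d ⊕ Fin d) → F // Cfsg.quadFormOdd d F x = 0} =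
      Fintype.card F ^ (2 * d) := by
  classical
  have h := Cfsg.Agent.Helper43.SingCount.card_sing (F := F) d F (fun w => w ^ 2)
  let e : (Unit ⊕ (Fin d ⊕ Fin d) → F) ≃ ((Fin d → F) × (Fin d → F)) × F :=
    ((Equiv.sumArrowEquivProdArrow Unit (Fin d ⊕ Fin d) F).trans
      (Equiv.prodCongr (Equiv.funUnique Unit F)
        (Equiv.sumArrowEquivProdArrow (Fin d) (Fin d) F))).trans (Equiv.prodComm _ _)
  have e' : {x : Unit ⊕ (Fin d ⊕ Fin d) → F // Cfsg.quadFormOdd d F x = 0} ≃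
      {p : ((Fin d → F) × (Fin d → F)) × F // p.1.1 ⬝ᵥ p.1.2 + p.2 ^ 2 = 0} :=
    Equiv.subtypeEquiv e (fun v => by
      show v (Sum.inl ()) ^ 2 + ∑ i : Fin d, v (Sum.inr (Sum.inl i)) * v (Sum.inr (Sum.inr i)) = 0 ↔
        (fun i => v (Sum.inr (Sum.inl i))) ⬝ᵥ (fun i => v (Sum.inr (Sum.inr i))) +
          v (Sum.inl ()) ^ 2 = 0
      rw [add_comm]
      rfl)
  rw [Nat.card_congr e']
  have h1 : Nat.card {w : F // w ^ 2 = 0} = 1 := by
    rw [Nat.card_eq_one_iff_unique]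
    refine ⟨⟨?_⟩, ⟨⟨0, by simp⟩⟩⟩
    rintro ⟨z, hz⟩ ⟨z', hz'⟩
    apply Subtype.ext
    have hz0 : z = 0 := by simpa using hz
    have hz0' : z' = 0 := by simpa using hz'
    exact hz0.trans hz0'.symm
  rw [h1, Nat.card_eq_fintype_card (α := F)] at h
  have hq : 0 < Fintype.card F := Fintype.card_pos
  have h2 : Fintype.card F *
      Nat.card {p : ((Fin d → F) × (Fin d → F)) × F // p.1.1 ⬝ᵥ p.1.2 + p.2 ^ 2 = 0} =
      Fintype.card F * Fintype.card F ^ (2 * d) := by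
    rw [h]
    have h3 : 1 ≤ Fintype.card F ^ d := Nat.one_le_pow _ _ hq
    obtain ⟨t, ht⟩ : ∃ t, Fintype.card F ^ d = t + 1 := ⟨Fintype.card F ^ d - 1, by omega⟩
    rw [pow_succ, two_mul, pow_add, ht]
    simp only [Nat.add_sub_cancel]
    ring
  exact Nat.eq_of_mul_eq_mul_left hq h2

end Cfsg.Agent.Helper70.OTS
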