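import Mathlib
import Cfsg.Prelude.Def_GeometricClasses
import Cfsg.Prelude.Def_Classical

set_option autoImplicit false

/-!
# Piece ELLMAP of sub-CALL S88OE (helper43): an isometry maps elliptic subspaces to elliptic
subspaces.
-/

namespace Cfsg.Agent.Helper70.S88OE

open Module Polynomial Cfsg Cfsg.Geo
open scoped MatrixGroups
open scoped Matrix

universe u

variable {ι : Type} [Fintype ι] [DecidableEq ι] {F : Type u} [Field F]

/-- ELLMAP: an isometry of `Q` maps elliptic subspaces to elliptic subspaces. -/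
theorem oe_ell_map (Q : (ι → F) → F) (g : GL ι F) (hg : g ∈ Cfsg.isometryGroup F Q)
    (W : Submodule F (ι → F)) (hnd : IsNondegenerateOn (QuadraticMap.polar Q) W)
    (hminus : ¬ IsPlusTypeOn Q W) :
    IsNondegenerateOn (QuadraticMap.polar Q) (W.map (Matrix.toLin' (g : Matrix ι ι F))) ∧
      ¬ IsPlusTypeOn Q (W.map (Matrix.toLin' (g : Matrix ι ι F))) ∧
      finrank F ↥(W.map (Matrix.toLin' (g : Matrix ι ι F))) = finrank F W := by
  have hQg : ∀ u, Q ((g : Matrix ι ι F) *ᵥ u) = Q u := fun u => hg u u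
  have hinj : Function.Injective (Matrix.toLin' (g : Matrix ι ι F)) := by
    intro u v huv
    have h1 := congrArg (fun w => ((g⁻¹ : GL ι F) : Matrix ι ι F) *ᵥ w) huv
    simp only [Matrix.toLin'_apply, Matrix.mulVec_mulVec] at h1
    have h2 : ((g⁻¹ : GL ι F) : Matrix ι ι F) * (g : Matrix ι ι F) = 1 := by
      rw [← Units.val_mul, inv_mul_cancel, Units.val_one]
    rwa [h2, Matrix.one_mulVec, Matrix.one_mulVec] at h1
  have hpol : ∀ u v, QuadraticMap.polar Q ((g : Matrix ι ι F) *ᵥ u) ((g : Matrix ι ι F) *ᵥ v)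
      = QuadraticMap.polar Q u v := by
    intro u v
    simp only [QuadraticMap.polar]
    rw [← Matrix.mulVec_add, hQg, hQg, hQg]
  have hfin : finrank F ↥(W.map (Matrix.toLin' (g : Matrix ι ι F))) = finrank F W :=
    (Submodule.equivMapOfInjective _ hinj W).finrank_eq.symm
  refine ⟨?_, ?_, hfin⟩
  · rintro _ ⟨w, hw, rfl⟩ hne
    have hw0 : w ≠ 0 := by
      rintro rfl
      exact hne (map_zero _)
    obtain ⟨⟨x, hx, hx1⟩, ⟨y, hy, hy1⟩⟩ := hnd w hw hw0
    refine ⟨⟨_, ⟨x, hx, rfl⟩, ?_⟩, ⟨_, ⟨y, hy, rfl⟩, ?_⟩⟩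
    · rw [Matrix.toLin'_apply, Matrix.toLin'_apply, hpol]
      exact hx1
    · rw [Matrix.toLin'_apply, Matrix.toLin'_apply, hpol]
      exact hy1
  · rintro ⟨U, hUW, hUs, hUd⟩
    apply hminus
    refine ⟨U.comap (Matrix.toLin' (g : Matrix ι ι F)), ?_, ?_, ?_⟩
    · intro u hu
      obtain ⟨w, hw, hwu⟩ := hUW hu
      exact hinj hwu ▸ hw
    · intro u hu
      have h3 := hUs _ hu
      rwa [Matrix.toLin'_apply, hQg] at h3
    · have h1 : (U.comap (Matrix.toLin' (g : Matrix ι ι F))).map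
          (Matrix.toLin' (g : Matrix ι ι F)) = U := by
        rw [Submodule.map_comap_eq]
        exact inf_eq_right.mpr (hUW.trans (LinearMap.map_le_range))
      have h2 := (Submodule.equivMapOfInjective _ hinj
        (U.comap (Matrix.toLin' (g : Matrix ι ι F)))).finrank_eq
      rw [h1] at h2
      rw [h2, hUd, hfin]

end Cfsg.Agent.Helper70.S88OE
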