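import Mathlib
import Cfsg.Prelude.Def_GeometricClasses
import Cfsg.Prelude.Def_Classical
import Cfsg.Agent.Helper35.S88Defs
import Cfsg.Agent.Helper35.TSSTDM
import Cfsg.Agent.Helper97.OForm
import Cfsg.Agent.Helper96.OHAux
import Cfsg.Agent.Helper97.S74T2G
import Cfsg.Agent.Helper70.S90T2GCore

set_option autoImplicit false
set_option linter.unusedSectionVars false
set_option linter.unusedVariables false

/-!
# CALL S90 (helper98 / helper69; row S5990), stage T2G: `s90_two_even_good`, verbatim (helper70)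

`r = p = 2`, good direction, ambient form of MINUS type.  The involution `x` has a block profile
`(A, h, e)` (`Cfsg.Agent.Helper97.S74.t2_profile`: `A` four-blocks of plus type, `h` hyperbolic and
`e` elliptic planes, `2 A + h + e = d`); `e` is odd because the ambient space is of minus type, and
an invariant elliptic `m`-space is a sub-profile `(a', h', e')` with `e'` odd and
`2 a' + h' + e' = m / 2` (`t2_arith_odd`).
-/

namespace Cfsg.Agent.Helper70.S90

open Module Cfsg Cfsg.Geo Cfsg.Agent.Helper35.S88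
open scoped MatrixGroups

/-- ARITH (elliptic twin of `Cfsg.Agent.Helper97.S74.t2_arith`): choice of a sub-profile with an
odd number of elliptic planes. -/
theorem t2_arith_odd (d A h e k : ℕ) (hd : d = 2 * A + h + e) (he : Odd e) (hk1 : 1 ≤ k)
    (hk : k < d) (hc : Even d ∨ Odd k) :
    ∃ a', a' ≤ A ∧ ∃ h', h' ≤ h ∧ ∃ e', e' ≤ e ∧ Odd e' ∧ 2 * a' + h' + e' = k := by
  obtain ⟨e₁, he₁⟩ := he
  rcases Nat.even_or_odd k with ⟨k₁, hk₁⟩ | ⟨k₁, hk₁⟩
  · have hde : Even d := by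
      rcases hc with h | ⟨j, hj⟩
      · exact h
      · exfalso; omega
    obtain ⟨d₁, hd₁⟩ := hde
    refine ⟨min A (k₁ - 1), Nat.min_le_left _ _,
      1 + 2 * (k₁ - 1 - min A (k₁ - 1) - min e₁ (k₁ - 1 - min A (k₁ - 1))), ?_,
      2 * min e₁ (k₁ - 1 - min A (k₁ - 1)) + 1, ?_, ⟨_, rfl⟩, ?_⟩ <;> omega
  · refine ⟨min A k₁, Nat.min_le_left _ _,
      2 * (k₁ - min A k₁ - min e₁ (k₁ - min A k₁)), ?_,
      2 * min e₁ (k₁ - min A k₁) + 1, ?_, ⟨_, rfl⟩, ?_⟩ <;> omega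

section stages

open Cfsg.Agent.Helper96.OH Cfsg.Agent.Helper96.OHAux

variable {F : Type*} [Field F] [Fintype F]

/-- T2G [BIG, NEW] (`r = p = 2`, `⟸`). -/
theorem s90_two_even_good {p : ℕ} [Fact p.Prime] [CharP F p] (d m : ℕ) (hd : 4 ≤ d) (hm : 2 ≤ m)
    (hme : Even m) (hmn : m + 2 ≤ 2 * d) (a b : F)
    (hab : ∀ x y : F, x ^ 2 + a * x * y + b * y ^ 2 = 0 → x = 0 ∧ y = 0) (hp2 : p = 2)
    (hcond : Even d ∨ m % 4 = 2) :
    AllEll (Cfsg.quadFormMinus (d - 1) F a b) 2 m := by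
  classical
  subst hp2
  have h2 : (2 : F) = 0 := CharTwo.two_eq_zero
  obtain ⟨hQ, hminus⟩ := Cfsg.Agent.Helper35.TS5973.ts_std_minus (F := F) (d - 1) a b hab
  have hcard : Fintype.card ((Fin (d - 1) ⊕ Fin (d - 1)) ⊕ Fin 2) = 2 * d := by
    simp
    omega
  intro x hx hxr hns
  have hxiso := Cfsg.Agent.Helper97.Gen.omegaGL_le _ hx
  have hT := oh_opres_toLin' (Cfsg.quadFormMinus (d - 1) F a b) x hxiso
  obtain ⟨z, hz⟩ := hxr
  have hne : Nonempty ((Fin (d - 1) ⊕ Fin (d - 1)) ⊕ Fin 2) := ⟨Sum.inr 0⟩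
  have hT2 := t2g_sq_one (Cfsg.quadFormMinus (d - 1) F a b) hQ x hxiso z hz
  have hTT : ∀ v, Matrix.toLin'
      (x : Matrix ((Fin (d - 1) ⊕ Fin (d - 1)) ⊕ Fin 2) ((Fin (d - 1) ⊕ Fin (d - 1)) ⊕ Fin 2) F)
      (Matrix.toLin'
        (x : Matrix ((Fin (d - 1) ⊕ Fin (d - 1)) ⊕ Fin 2) ((Fin (d - 1) ⊕ Fin (d - 1)) ⊕ Fin 2) F)
        v) = v := by
    intro v
    have h := congrArg (fun f => f v) hT2
    rw [pow_two] at h
    exact h
  obtain ⟨A, h, e, hdim, hprof⟩ := Cfsg.Agent.Helper97.S74.t2_profile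
    (Cfsg.quadFormMinus (d - 1) F a b) hQ h2 _ hT hTT _ ⊤ rfl le_top (ond_top _ hQ)
  rw [finrank_top, Module.finrank_fintype_fun_eq_card, hcard] at hdim
  obtain ⟨W₀, -, -, hW₀nd, hW₀dim, hW₀ty⟩ := hprof A le_rfl h le_rfl e le_rfl
  have hW₀top : W₀ = ⊤ := by
    apply Submodule.eq_top_of_finrank_eq
    rw [hW₀dim, Module.finrank_fintype_fun_eq_card, hcard]
    omega
  have heo : Odd e := by
    apply Nat.not_even_iff_odd.mp
    intro he
    have h3 := hW₀ty.mpr he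
    rw [hW₀top] at h3
    exact hminus h3
  obtain ⟨k, hk⟩ := hme
  have hc : Even d ∨ Odd k := by
    rcases hcond with h | h
    · exact Or.inl h
    · right
      exact ⟨k / 2, by omega⟩
  obtain ⟨a', ha', h', hh', e', he', heo', hsum⟩ :=
    t2_arith_odd d A h e k (by omega) heo (by omega) (by omega) hc
  obtain ⟨W, -, hWT, hWnd, hWdim, hWty⟩ := hprof a' ha' h' hh' e' he'
  refine ⟨W, ⟨by rw [hWdim]; omega, hWnd, ?_⟩, hWT⟩
  intro hpl
  exact (Nat.not_even_iff_odd.mpr heo') (hWty.mp hpl)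

end stages

end Cfsg.Agent.Helper70.S90
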