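import Cfsg.Agent.Helper70.SFTRFIX

/-!
# Helper70: PIECE TRCOMM of CALL S2752 (helper87)

`Cfsg.Agent.Helper70.sf_tr_comm` is proved in `Cfsg.Agent.Helper70.SFTRFIX` (next to `sf_tr_fix`);
this module only makes it available under the conventional file name.
-/
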